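import Cfsg.Agent.Lib.UnitGen.TwoGen
import Cfsg.Agent.Lib.Classical.UnitaryStandard
import Cfsg.Agent.S0754

/-!
The standard unitary groups are generated by two elements.
-/

set_option autoImplicit false

namespace Cfsg.Agent.Lib.UnitGen

open Cfsg.Agent.Lib.Classical

variable {F : Type*} [Field F] {σ : F →+* F} {V : Type*} [AddCommGroup V] [Module F V] {B : V → V → F}

/-- A frame spanning the space. -/
structure FullFrame (B : V → V → F) (N : ℕ) (e f : ℕ → V) (w0 : V) : Prop where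
  ee : ∀ i j, B (e i) (e j) = 0
  ff : ∀ i j, B (f i) (f j) = 0
  ef : ∀ i, i < N → B (e i) (f i) = 1
  fe : ∀ i, i < N → B (f i) (e i) = 1
  ef_ne : ∀ i j, i ≠ j → B (e i) (f j) = 0
  fe_ne : ∀ i j, i ≠ j → B (f i) (e j) = 0
  w0e : ∀ i, B w0 (e i) = 0
  w0f : ∀ i, B w0 (f i) = 0
  ew0 : ∀ i, B (e i) w0 = 0
  fw0 : ∀ i, B (f i) w0 = 0
  unit : w0 = 0 ∨ B w0 w0 = 1
  full : ∀ x, x ∈ Submodule.span F ({v | ∃ i, i < N ∧ (v = e i ∨ v = f i)} ∪ {w0})

/-- Prepend a hyperbolic plane. -/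
def extSeq (a : F × F × V) (e : ℕ → V) : ℕ → F × F × V
  | 0 => a
  | i + 1 => (0, 0, e i)

variable {N : ℕ} {e f : ℕ → V} {w0 : V}

theorem mem_span_ext (hF : FullFrame B N e f w0) (x : V) :
    ((0, 0, x) : F × F × V) ∈ Submodule.span F ({v | ∃ i, 0 < i ∧ i < N + 1 ∧
      (v = extSeq (1, 0, 0) e i ∨ v = extSeq (0, 1, 0) f i)} ∪ {((0, 0, w0) : F × F × V)}) := by
  have hx := hF.full x
  set ι : V →ₗ[F] F × F × V := (LinearMap.inr F F (F × V)).comp (LinearMap.inr F F V) with hι
  have h1 := Submodule.mem_map_of_mem (f := ι) hx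
  rw [Submodule.map_span] at h1
  refine Submodule.span_mono ?_ h1
  rintro _ ⟨v, (⟨i, hi, rfl | rfl⟩ | rfl), rfl⟩
  · exact Or.inl ⟨i + 1, by omega, by omega, Or.inl rfl⟩
  · exact Or.inl ⟨i + 1, by omega, by omega, Or.inr rfl⟩
  · exact Or.inr rfl

theorem FullFrame.ext_frame (h : HermSpace σ B) (hF : FullFrame B N e f w0) :
    Frame (uExt σ B) (N + 1) (extSeq (1, 0, 0) e) (extSeq (0, 1, 0) f) (0, 0, w0) where
  ee i j := by rcases i with _ | i <;> rcases j with _ | j <;> simp [uExt, extSeq, h.zero_left, h.zero_right, hF.ee]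
  ff i j := by rcases i with _ | i <;> rcases j with _ | j <;> simp [uExt, extSeq, h.zero_left, h.zero_right, hF.ff]
  ef i hi := by rcases i with _ | i <;> simp [uExt, extSeq, h.zero_left]; exact hF.ef i (by omega)
  fe i hi := by rcases i with _ | i <;> simp [uExt, extSeq, h.zero_left]; exact hF.fe i (by omega)
  ef_ne i j hij := by
    rcases i with _ | i <;> rcases j with _ | j <;> simp [uExt, extSeq, h.zero_left, h.zero_right] at hij ⊢
    exact hF.ef_ne i j hij
  fe_ne i j hij := by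
    rcases i with _ | i <;> rcases j with _ | j <;> simp [uExt, extSeq, h.zero_left, h.zero_right] at hij ⊢
    exact hF.fe_ne i j hij
  w0e i := by rcases i with _ | i <;> simp [uExt, extSeq, h.zero_right, hF.w0e]
  w0f i := by rcases i with _ | i <;> simp [uExt, extSeq, h.zero_right, hF.w0f]
  ew0 i := by rcases i with _ | i <;> simp [uExt, extSeq, h.zero_left, hF.ew0]
  fw0 i := by rcases i with _ | i <;> simp [uExt, extSeq, h.zero_left, hF.fw0]
  unit := by rcases hF.unit with h0 | h1 <;> [left; right] <;> simp [uExt, *]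
  span x hxe hxf := by
    have hy : x.2.1 = 0 := by simpa [uExt, extSeq, h.zero_right] using hxe
    have hx : x.1 = 0 := by simpa [uExt, extSeq, h.zero_right] using hxf
    rw [show x = (0, 0, x.2.2) from Prod.ext hx (Prod.ext hy rfl)]
    exact mem_span_ext hF _

theorem FullFrame.ext_full (h : HermSpace σ B) (hF : FullFrame B N e f w0) :
    FullFrame (uExt σ B) (N + 1) (extSeq (1, 0, 0) e) (extSeq (0, 1, 0) f) (0, 0, w0) := by
  obtain ⟨h1, h2, h3, h4, h5, h6, h7, h8, h9, h10, h11, -⟩ := hF.ext_frame h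
  refine ⟨h1, h2, h3, h4, h5, h6, h7, h8, h9, h10, h11, fun x => ?_⟩
  rw [show x = x.1 • ((1, 0, 0) : F × F × V) + x.2.1 • ((0, 1, 0) : F × F × V) + (0, 0, x.2.2) by ext <;> simp]
  refine Submodule.add_mem _ (Submodule.add_mem _ (Submodule.smul_mem _ _ ?_) (Submodule.smul_mem _ _ ?_))
    (Submodule.span_mono ?_ (mem_span_ext hF _))
  · exact Submodule.subset_span (Or.inl ⟨0, by omega, Or.inl rfl⟩)
  · exact Submodule.subset_span (Or.inl ⟨0, by omega, Or.inr rfl⟩)
  · rintro v (⟨i, -, hi, hv⟩ | hv)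
    exacts [Or.inl ⟨i, hi, hv⟩, Or.inr hv]

theorem FullFrame.map {W : Type*} [AddCommGroup W] [Module F W] {C : W → W → F} (Φ : V ≃ₗ[F] W)
    (hΦ : ∀ u v, C (Φ u) (Φ v) = B u v) (hF : FullFrame B N e f w0) :
    FullFrame C N (fun i => Φ (e i)) (fun i => Φ (f i)) (Φ w0) where
  ee i j := by rw [hΦ, hF.ee]
  ff i j := by rw [hΦ, hF.ff]
  ef i hi := by rw [hΦ, hF.ef i hi]
  fe i hi := by rw [hΦ, hF.fe i hi]
  ef_ne i j hij := by rw [hΦ, hF.ef_ne i j hij]
  fe_ne i j hij := by rw [hΦ, hF.fe_ne i j hij]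
  w0e i := by rw [hΦ, hF.w0e]
  w0f i := by rw [hΦ, hF.w0f]
  ew0 i := by rw [hΦ, hF.ew0]
  fw0 i := by rw [hΦ, hF.fw0]
  unit := hF.unit.imp (fun h0 => by rw [h0, map_zero]) fun h1 => by rw [hΦ, h1]
  full x := by
    obtain ⟨y, rfl⟩ := Φ.surjective x
    have h1 := Submodule.mem_map_of_mem (f := (Φ : V →ₗ[F] W)) (hF.full y)
    rw [Submodule.map_span] at h1
    refine Submodule.span_mono ?_ h1
    rintro _ ⟨v, (⟨i, hi, rfl | rfl⟩ | rfl), rfl⟩
    · exact Or.inl ⟨i, hi, Or.inl rfl⟩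
    · exact Or.inl ⟨i, hi, Or.inr rfl⟩
    · exact Or.inr rfl

theorem exists_fullFrame {F : Type*} [Field F] [Fintype F] {q : ℕ} (hF : Fintype.card F = q ^ 2) (n : ℕ) :
    ∃ (e f : ℕ → (Fin n → F)) (w0 : Fin n → F), FullFrame (Cfsg.hermForm n F q) (n / 2) e f w0 ∧
      (n % 2 = 1 → Cfsg.hermForm n F q w0 w0 = 1) := by
  induction n using Nat.twoStepInduction with
  | zero =>
    refine ⟨0, 0, 0, ⟨?_, ?_, ?_, ?_, ?_, ?_, ?_, ?_, ?_, ?_, Or.inl rfl, fun x => ?_⟩, by simp⟩
    all_goals first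
      | (rw [Subsingleton.elim x 0]; exact Submodule.zero_mem _)
      | (intros; simp [Cfsg.hermForm]; done)
      | (intro i hi; exact absurd hi (by omega))
  | one =>
    have hq := Forms.two_le_of_card_sq hF
    obtain ⟨v, hv⟩ := exists_unit_vector hF 0
    have hs := hermSpace_std hF 1
    refine ⟨0, 0, v, ⟨?_, ?_, ?_, ?_, ?_, ?_, ?_, ?_, ?_, ?_, Or.inr hv, fun x => ?_⟩, fun _ => hv⟩
    case refine_11 =>
      have hv0 : v 0 ≠ 0 := fun e => by
        have : Cfsg.hermForm 1 F q v v = 0 := by simp [Cfsg.hermForm, e]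
        exact one_ne_zero (α := F) (hv.symm.trans this)
      rw [show x = (x 0 / v 0) • v by funext i; fin_cases i; simp [hv0]]
      exact Submodule.smul_mem _ _ (Submodule.subset_span (Or.inr rfl))
    all_goals first
      | (intros; simp [hs.zero_left, hs.zero_right]; done)
      | (intro i hi; exact absurd hi (by omega))
  | more n ih _ =>
    obtain ⟨e, f, w0, hfr, hw⟩ := ih
    obtain ⟨Φ, hΦ⟩ := exists_split hF n
    refine ⟨fun i => Φ (extSeq (1, 0, 0) e i), fun i => Φ (extSeq (0, 1, 0) f i), Φ (0, 0, w0), ?_, fun hn => ?_⟩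
    · rw [show (n + 2) / 2 = n / 2 + 1 by omega]
      exact (hfr.ext_full (hermSpace_std hF n)).map Φ hΦ
    · rw [hΦ]
      simpa [uExt] using hw (by omega)

theorem exists_pair_SU {F : Type*} [Field F] [Fintype F] {q : ℕ} (hF : Fintype.card F = q ^ 2) (n : ℕ) (hn : 1 ≤ n)
    (h32 : n = 1 → q ≠ 2) :
    ∃ a b : Cfsg.SU (n + 2) F q, Subgroup.closure ({a, b} : Set (Cfsg.SU (n + 2) F q)) = ⊤ := by
  obtain ⟨e, f, w0, hfr, hw⟩ := exists_fullFrame hF n
  set hs := hermSpace_std hF n with hsdef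
  have hcard : Nat.card F = q ^ 2 := by rw [Nat.card_eq_fintype_card, hF]
  have hfr' := hfr.ext_frame hs
  obtain ⟨a, ha, b, hb, hab⟩ : ∃ a ∈ uGroup hs.ext, ∃ b ∈ uGroup hs.ext, ∀ x c,
      uExt (Forms.qPowHom hF) (Cfsg.hermForm n F q) x (extSeq (1, 0, 0) e 0) = 0 →
      uExt (Forms.qPowHom hF) (Cfsg.hermForm n F q) x (extSeq (0, 1, 0) f 0) = 0 →
      c + Forms.qPowHom hF c + uExt (Forms.qPowHom hF) (Cfsg.hermForm n F q) x x = 0 →
      ue hs.ext (extSeq (1, 0, 0) e 0) x c ∈ Subgroup.closure {a, b} ∧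
        ue hs.ext (extSeq (0, 1, 0) f 0) x c ∈ Subgroup.closure {a, b} := by
    by_cases h1 : n = 1
    · subst h1
      have hq := Forms.two_le_of_card_sq hF
      refine exists_gen_three hs.ext hcard (Forms.qPowHom_apply hF) ?_ hfr' ?_ (by have := h32 rfl; omega)
      · intro a ha
        by_cases ha0 : a = 0
        · exact ⟨0, by simp [ha0]⟩
        have hc := S0754.result hF a ha0 (by rwa [Forms.qPowHom_apply] at ha)
        obtain ⟨x, hx⟩ : Nonempty {x : F // x ^ (q + 1) = a} := (Nat.card_pos_iff.1 (by omega)).1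
        exact ⟨x, by rw [Forms.qPowHom_apply, ← hx, pow_succ, mul_comm]⟩
      · simpa [uExt, -Forms.qPowHom_apply] using hw rfl
    · exact exists_gen_planes hs.ext hcard (Forms.qPowHom_apply hF) hfr' (by omega)
  have htop : Subgroup.closure ({a, b} : Set ((F × F × (Fin n → F)) ≃ₗ[F] (F × F × (Fin n → F)))) = uGroup hs.ext := by
    refine le_antisymm ((Subgroup.closure_le _).2 (Set.pair_subset ha hb)) ?_
    set L := Subgroup.closure ({a, b} : Set ((F × F × (Fin n → F)) ≃ₗ[F] (F × F × (Fin n → F))))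
    have hT : ∀ z c hc, uT hs z c hc ∈ L := fun z c hc => by
      have := (hab (0, 0, z) c (by simp [uExt, extSeq, hs.zero_right, -Forms.qPowHom_apply]) (by simp [uExt, extSeq, hs.zero_right, -Forms.qPowHom_apply])
        (by simpa [uExt, -Forms.qPowHom_apply] using hc)).1
      rwa [ue_eq (by simp [uExt, extSeq, hs.zero_left, -Forms.qPowHom_apply]) (by simp [uExt, extSeq, hs.zero_right, -Forms.qPowHom_apply])
        (by simpa [uExt, -Forms.qPowHom_apply] using hc)] at this
    have hT' : ∀ z c hc, uT' hs z c hc ∈ L := fun z c hc => by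
      have := (hab (0, 0, z) c (by simp [uExt, extSeq, hs.zero_right, -Forms.qPowHom_apply]) (by simp [uExt, extSeq, hs.zero_right, -Forms.qPowHom_apply])
        (by simpa [uExt, -Forms.qPowHom_apply] using hc)).2
      rwa [ue_eq (by simp [uExt, extSeq, hs.zero_left, -Forms.qPowHom_apply]) (by simp [uExt, extSeq, hs.zero_right, -Forms.qPowHom_apply])
        (by simpa [uExt, -Forms.qPowHom_apply] using hc)] at this
    rw [uGroup, Subgroup.closure_le]
    rintro _ ⟨u, w, c, hu, hwu, hc, rfl⟩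
    by_cases hu0 : u = 0
    · have hzero : uEich hs.ext u w c hu hwu hc = 1 :=
        LinearEquiv.ext fun x => by subst hu0; rw [uEich_apply, hs.ext.zero_right]; simp
      rw [hzero]; exact L.one_mem
    obtain ⟨z, d, hd, hne⟩ := exists_uT_fst_ne hs u hu0
    obtain ⟨z', d', hd', he'⟩ := exists_uT'_clear hs (uT hs z d hd u)
      (by rw [uGroup_le hs.ext (uT_mem hs z d hd), hu]) hne
    set g := uT' hs z' d' hd' * uT hs z d hd with hg
    have hgL : g ∈ L := L.mul_mem (hT' _ _ _) (hT _ _ _)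
    have hgi : g ∈ biIsoGroup (uExt (Forms.qPowHom hF) (Cfsg.hermForm n F q)) :=
      uGroup_le hs.ext (mul_mem (uT'_mem hs _ _ _) (uT_mem hs _ _ _))
    have hgu : g u = (uT hs z d hd u).1 • ((1 : F), (0 : F), (0 : Fin n → F)) := by
      rw [hg, LinearEquiv.mul_apply, he']; simp
    set x := (uT hs z d hd u).1 with hxdef
    set w' := g w with hw'
    have hw2 : w'.2.1 = 0 := by
      have h1 := hgi w u
      rw [hwu, hgu, ← hw', hs.ext.smul_right] at h1
      rcases mul_eq_zero.1 h1 with h2 | h2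
      · exact absurd ((map_eq_zero _).1 h2) hne
      · simpa [uExt, hs.zero_right, -Forms.qPowHom_apply] using h2
    have hcw : c + (Forms.qPowHom hF) c + Cfsg.hermForm n F q w'.2.2 w'.2.2 = 0 := by
      have h1 : uExt (Forms.qPowHom hF) (Cfsg.hermForm n F q) w' w' = uExt (Forms.qPowHom hF) (Cfsg.hermForm n F q) w w := hgi w w
      rw [uExt_self, hw2, map_zero, mul_zero, zero_mul, add_zero, zero_add] at h1
      linear_combination hc + h1
    obtain ⟨k, hk⟩ : ∃ k, k = x * (Forms.qPowHom hF) x * c + (Forms.qPowHom hF) x * w'.1 - x * (Forms.qPowHom hF) w'.1 := ⟨_, rfl⟩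
    have hk' : k + (Forms.qPowHom hF) k + Cfsg.hermForm n F q ((Forms.qPowHom hF) x • w'.2.2) ((Forms.qPowHom hF) x • w'.2.2) = 0 := by
      rw [hk, hs.smul_left, hs.smul_right, hs.invol]
      simp only [map_add, map_sub, map_mul, hs.invol]
      linear_combination (x * (Forms.qPowHom hF) x) * hcw
    have key : g * uEich hs.ext u w c hu hwu hc * g⁻¹ = uT hs ((Forms.qPowHom hF) x • w'.2.2) k hk' := by
      rw [uEich_conj hs.ext u w c hu hwu hc hgi]
      refine LinearEquiv.ext fun p => ?_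
      rw [uEich_apply, uT_apply, hgu, ← hw', hk]
      refine Prod.ext ?_ (Prod.ext ?_ ?_)
      · simp only [uExt, Prod.fst_add, Prod.smul_fst, Prod.smul_snd, smul_eq_mul, map_zero, map_one, mul_zero, mul_one,
          hs.smul_right, hs.zero_right, hw2, hs.invol, smul_zero]
        ring
      · simp [uExt, hw2, -Forms.qPowHom_apply]
      · simp only [uExt, Prod.snd_add, Prod.fst_add, Prod.smul_fst, Prod.smul_snd, smul_eq_mul, map_zero, map_one,
          mul_zero, mul_one, hs.zero_right, hw2, smul_zero, add_zero, smul_smul]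
        module
    have := L.mul_mem (L.mul_mem (L.inv_mem hgL) (hT _ _ hk')) hgL
    rw [← key] at this
    rw [SetLike.mem_coe]
    convert this using 1
    group
  obtain ⟨-, φ, -, -⟩ := exists_suEquiv hF n
  refine ⟨φ.symm ⟨a, ha⟩, φ.symm ⟨b, hb⟩, ?_⟩
  have hsub : Subgroup.closure ({⟨a, ha⟩, ⟨b, hb⟩} : Set (uGroup hs.ext)) = ⊤ := by
    refine Subgroup.map_injective (uGroup hs.ext).subtype_injective ?_
    rw [MonoidHom.map_closure, ← MonoidHom.range_eq_map, Subgroup.range_subtype, Set.image_pair]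
    exact htop
  rw [← Set.image_pair, ← MulEquiv.coe_toMonoidHom, ← MonoidHom.map_closure, hsub]
  exact Subgroup.map_top_of_surjective _ φ.symm.surjective

end Cfsg.Agent.Lib.UnitGen
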