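import Mathlib
import Cfsg.Agent.Lib.Classical.UnitaryEichler

/-!
Unitary Eichler transformations as a total function and their root groups.
-/

set_option autoImplicit false

namespace Cfsg.Agent.Lib.UnitGen

open Cfsg.Agent.Lib.Classical

variable {F : Type*} [Field F] {σ : F →+* F} {V : Type*} [AddCommGroup V] [Module F V] {B : V → V → F}

/-- Eichler transformation, the identity outside its domain. -/
noncomputable def ue (h : HermSpace σ B) (u w : V) (c : F) : V ≃ₗ[F] V :=
  haveI := Classical.propDecidable (B u u = 0 ∧ B w u = 0 ∧ c + σ c + B w w = 0)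
  if H : B u u = 0 ∧ B w u = 0 ∧ c + σ c + B w w = 0 then uEich h u w c H.1 H.2.1 H.2.2 else 1

variable {h : HermSpace σ B}

theorem ue_eq {u w : V} {c : F} (hu : B u u = 0) (hwu : B w u = 0) (hc : c + σ c + B w w = 0) :
    ue h u w c = uEich h u w c hu hwu hc := by
  rw [ue, dif_pos ⟨hu, hwu, hc⟩]

theorem ue_apply {u w : V} {c : F} (hu : B u u = 0) (hwu : B w u = 0) (hc : c + σ c + B w w = 0) (x : V) :
    ue h u w c x = x + B x u • w + (c * B x u - B x w) • u := by
  rw [ue_eq hu hwu hc, uEich_apply]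

theorem ue_mem_uGroup (u w : V) (c : F) : ue h u w c ∈ uGroup h := by
  rw [ue]
  split_ifs
  · exact uEich_mem_uGroup _ _ _ _ _ _ _
  · exact one_mem _

theorem ue_mem_iso (u w : V) (c : F) : ue h u w c ∈ biIsoGroup B := uGroup_le h (ue_mem_uGroup u w c)

theorem ue_conj {g : V ≃ₗ[F] V} (hg : g ∈ biIsoGroup B) (u w : V) (c : F) :
    g * ue h u w c * g⁻¹ = ue h (g u) (g w) c := by
  by_cases H : B u u = 0 ∧ B w u = 0 ∧ c + σ c + B w w = 0
  · rw [ue_eq H.1 H.2.1 H.2.2, uEich_conj h u w c _ _ _ hg,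
      ue_eq (by rw [hg, H.1]) (by rw [hg, H.2.1]) (by rw [hg, H.2.2])]
  · rw [ue, dif_neg H, ue, dif_neg (by rwa [hg, hg, hg]), mul_one, mul_inv_cancel]

theorem ue_fix {u w x : V} (c : F) (hxu : B x u = 0) (hxw : B x w = 0) : ue h u w c x = x := by
  by_cases H : B u u = 0 ∧ B w u = 0 ∧ c + σ c + B w w = 0
  · rw [ue_apply H.1 H.2.1 H.2.2, hxu, hxw]; simp
  · rw [ue, dif_neg H]; rfl

theorem ue_mul {u w w' : V} {c c' : F} (hu : B u u = 0) (hwu : B w u = 0) (hwu' : B w' u = 0)
    (hc : c + σ c + B w w = 0) (hc' : c' + σ c' + B w' w' = 0) :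
    ue h u w c * ue h u w' c' = ue h u (w + w') (c + c' - B w' w) := by
  rw [ue_eq hu hwu hc, ue_eq hu hwu' hc', uEich_mul, ← ue_eq]

theorem fill_mul {w w' : V} {c c' : F} (hc : c + σ c + B w w = 0) (hc' : c' + σ c' + B w' w' = 0)
    (h : HermSpace σ B) : (c + c' - B w' w) + σ (c + c' - B w' w) + B (w + w') (w + w') = 0 := by
  rw [map_sub, map_add, h.symm]; simp only [h.add_left, h.add_right]; linear_combination hc + hc'

theorem fill_zero {d : F} (hd : d + σ d = 0) (h : HermSpace σ B) : d + σ d + B (0 : V) 0 = 0 := by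
  rw [hd, h.zero_left, add_zero]

theorem fill_sing {w : V} (hw : B w w = 0) (h : HermSpace σ B) (t : F) :
    (0 : F) + σ 0 + B (t • w) (t • w) = 0 := by
  rw [h.smul_left, h.smul_right, hw, map_zero]; ring

theorem ue_zero {u : V} : ue h u 0 0 = 1 := by
  by_cases hu : B u u = 0
  · rw [ue_eq hu (h.zero_left u) (fill_zero (by simp) h), uEich_zero]
  · rw [ue, dif_neg (fun H => hu H.1)]

theorem ue_inv {u w : V} {c : F} (hu : B u u = 0) (hwu : B w u = 0) (hc : c + σ c + B w w = 0) :
    (ue h u w c)⁻¹ = ue h u (-w) (σ c) := by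
  refine inv_eq_of_mul_eq_one_right ?_
  rw [ue_mul hu hwu (by rw [h.neg_left, hwu, neg_zero]) hc
    (by rw [h.invol, h.neg_left, h.neg_right, neg_neg, add_comm (σ c) c]; exact hc), add_neg_cancel,
    h.neg_left, sub_neg_eq_add, hc, ue_zero]

theorem ue_smul_left {u w : V} {c : F} (hu : B u u = 0) (hwu : B w u = 0) (hc : c + σ c + B w w = 0) (a : F) :
    ue h (a • u) w c = ue h u (σ a • w) (a * σ a * c) := by
  refine LinearEquiv.ext fun x => ?_
  rw [ue_apply (by rw [h.smul_left, h.smul_right, hu, mul_zero, mul_zero]) (by rw [h.smul_right, hwu, mul_zero]) hc,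
    ue_apply hu (by rw [h.smul_left, hwu, mul_zero]) (by
      rw [map_mul, map_mul, h.invol, h.smul_left, h.smul_right, h.invol]
      linear_combination (a * σ a) * hc)]
  simp only [h.smul_right, h.invol]
  match_scalars <;> ring

theorem ue_swap {u v : V} (hu : B u u = 0) (hv : B v v = 0) (hvu : B v u = 0) :
    ue h v u 0 = ue h u (-v) 0 := by
  have huv : B u v = 0 := by rw [← h.symm, hvu, map_zero]
  refine LinearEquiv.ext fun x => ?_
  rw [ue_apply hv huv (by simp [hu]), ue_apply hu (by rw [h.neg_left, hvu, neg_zero])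
    (by rw [h.neg_left, h.neg_right, hv]; simp)]
  simp only [h.neg_right]
  module

/-- The root group of a pair of orthogonal isotropic vectors lies in `L`. -/
def Root (h : HermSpace σ B) (L : Subgroup (V ≃ₗ[F] V)) (u v : V) : Prop := ∀ t : F, ue h u (t • v) 0 ∈ L

/-- Some Eichler transformation of every multiple of `w` lies in `L`. -/
def Short (h : HermSpace σ B) (L : Subgroup (V ≃ₗ[F] V)) (u w : V) : Prop :=
  ∀ t : F, ∃ c, c + σ c + B (t • w) (t • w) = 0 ∧ ue h u (t • w) c ∈ L

/-- The long root group lies in `L`. -/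
def Long (h : HermSpace σ B) (L : Subgroup (V ≃ₗ[F] V)) (u : V) : Prop := ∀ d : F, d + σ d = 0 → ue h u 0 d ∈ L

variable {L : Subgroup (V ≃ₗ[F] V)}

theorem Root.of_smul {u v : V} {a b : F} (ha : a ≠ 0) (hb : b ≠ 0) (hu : B u u = 0) (hv : B v v = 0)
    (hvu : B v u = 0) (hr : Root h L (a • u) (b • v)) : Root h L u v := fun t => by
  have := hr (t / (σ a * b))
  rw [smul_smul, ue_smul_left hu (by rw [h.smul_left, hvu, mul_zero]) (fill_sing hv h _), smul_smul, mul_zero] at this
  rwa [show σ a * (t / (σ a * b) * b) = t by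
    have := (map_ne_zero σ).2 ha
    field_simp] at this

theorem Root.symm {u v : V} (hr : Root h L u v) (hu : B u u = 0) (hv : B v v = 0) (hvu : B v u = 0) :
    Root h L v u := fun t => by
  have huv : B u v = 0 := by rw [← h.symm, hvu, map_zero]
  have := hr (-σ t)
  rw [neg_smul, ← ue_swap hu (by rw [h.smul_left, h.smul_right, hv, mul_zero, mul_zero])
    (by rw [h.smul_left, hvu, mul_zero]), ue_smul_left hv huv (by simp [hu]), h.invol, mul_zero] at this
  exact this

theorem Root.conj {g : V ≃ₗ[F] V} (hL : L ≤ biIsoGroup B) (hg : g ∈ L) {u v : V} (hr : Root h L u v) :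
    Root h L (g u) (g v) := fun t => by
  rw [← map_smul, ← ue_conj (hL hg)]
  exact L.mul_mem (L.mul_mem hg (hr t)) (L.inv_mem hg)

theorem Short.of_smul {u w : V} {a b : F} (ha : a ≠ 0) (hb : b ≠ 0) (hu : B u u = 0) (hwu : B w u = 0)
    (hs : Short h L (a • u) (b • w)) : Short h L u w := fun t => by
  obtain ⟨c, hc, hm⟩ := hs (t / (σ a * b))
  rw [ue_smul_left hu (by rw [h.smul_left, h.smul_left, hwu, mul_zero, mul_zero]) hc, smul_smul, smul_smul] at hm
  have e : σ a * (t / (σ a * b) * b) = t := by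
    have := (map_ne_zero σ).2 ha
    field_simp
  rw [smul_smul] at hc
  rw [mul_assoc, e] at hm
  refine ⟨_, ?_, hm⟩
  rw [← e, ← smul_smul, map_mul, map_mul, h.invol, h.smul_left, h.smul_right, h.invol]
  linear_combination (a * σ a) * hc

theorem Short.conj {g : V ≃ₗ[F] V} (hL : L ≤ biIsoGroup B) (hg : g ∈ L) {u w : V} (hs : Short h L u w) :
    Short h L (g u) (g w) := fun t => by
  obtain ⟨c, hc, hm⟩ := hs t
  refine ⟨c, by rw [← map_smul, hL hg]; exact hc, ?_⟩
  rw [← map_smul, ← ue_conj (hL hg)]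
  exact L.mul_mem (L.mul_mem hg hm) (L.inv_mem hg)

/-- Chaining two root groups. -/
theorem Root.step (hL : L ≤ biIsoGroup B) {u x v y : V} (h₁ : Root h L u x) (h₂ : Root h L v y)
    (hu : B u u = 0) (hv : B v v = 0) (hx : B x x = 0) (hy : B y y = 0) (hxu : B x u = 0) (hyu : B y u = 0)
    (huv : B u v = 0) (hyv : B y v = 0) (hxv : B x v = 1) (hxy : B x y = 0) : Root h L u y := by
  intro s
  have huy : B u y = 0 := by rw [← h.symm, hyu, map_zero]
  have hyx : B y x = 0 := by rw [← h.symm, hxy, map_zero]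
  have hc := h₁.conj hL (h₂ s) 1
  rw [ue_fix _ huv (by rw [h.smul_right, huy, mul_zero]), one_smul, ue_apply hv
    (by rw [h.smul_left, hyv, mul_zero]) (fill_sing hy h s), hxv, h.smul_right, hxy] at hc
  simp only [one_smul, zero_mul, mul_zero, sub_zero, zero_smul, add_zero] at hc
  have hm := L.mul_mem (h₁ (-1)) hc
  rw [ue_mul hu (by rw [h.smul_left, hxu, mul_zero]) (by rw [h.add_left, h.smul_left, hxu, hyu]; ring)
    (fill_sing hx h _) (by simp [h.add_left, h.add_right, h.smul_left, h.smul_right, hx, hy, hxy, hyx])] at hm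
  convert hm using 2
  · module
  · simp [h.add_left, h.smul_left, h.smul_right, h.neg_right, hx, hyx]

/-- A short root group moved along a root group. -/
theorem Root.shortStep (hL : L ≤ biIsoGroup B) {u x v w : V} (h₁ : Root h L u x) (h₂ : Short h L v w)
    (h₃ : Root h L u v) (hu : B u u = 0) (hv : B v v = 0) (hx : B x x = 0) (hxu : B x u = 0) (huv : B u v = 0)
    (hwu : B w u = 0) (hwv : B w v = 0) (hxv : B x v = 1) (hxw : B x w = 0) : Short h L u w := by
  intro s
  obtain ⟨c, hc, hm⟩ := h₂ s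
  have huw : B u w = 0 := by rw [← h.symm, hwu, map_zero]
  have hvu : B v u = 0 := by rw [← h.symm, huv, map_zero]
  have hxsw : B x (s • w) = 0 := by rw [h.smul_right, hxw, mul_zero]
  have hx' : B (x + s • w + c • v) u = 0 := by simp [h.add_left, h.smul_left, hxu, hwu, hvu]
  have hc' := h₁.conj hL hm 1
  rw [ue_fix _ huv (by rw [h.smul_right, huw, mul_zero]), one_smul, ue_apply hv
    (by rw [h.smul_left, hwv, mul_zero]) hc, hxv, hxsw, one_smul, mul_one, sub_zero] at hc'
  have hval : B (x + s • w + c • v) (x + s • w + c • v) = 0 := by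
    have := hL hm x x
    rwa [ue_apply hv (by rw [h.smul_left, hwv, mul_zero]) hc, hxv, hxsw, one_smul, mul_one, sub_zero, hx] at this
  have f1 : (0 : F) + σ 0 + B (x + s • w + c • v) (x + s • w + c • v) = 0 := by simp [hval]
  have hm' := L.mul_mem (L.mul_mem (h₁ (-1)) hc') (h₃ (-c))
  have f2 := fill_mul (fill_sing hx h (-1)) f1 h
  rw [ue_mul hu (by rw [h.smul_left, hxu, mul_zero]) hx' (fill_sing hx h _) f1] at hm'
  have hsum : B ((-1 : F) • x + (x + s • w + c • v)) u = 0 := by
    rw [h.add_left, h.smul_left, hxu, hx']; ring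
  have f3 := fill_mul f2 (fill_sing hv h (-c)) h
  rw [ue_mul hu hsum (by rw [h.smul_left, hvu, mul_zero]) f2 (fill_sing hv h _),
    show (-1 : F) • x + (x + s • w + c • v) + (-c) • v = s • w by module] at hm'
  exact ⟨_, by convert f3 using 3 <;> module, hm'⟩

/-- Long root group from two root groups with a hyperbolic pair. -/
theorem Long.of_pair {u x y : V} (h₁ : Root h L u x) (h₂ : Root h L u y) (hu : B u u = 0) (hx : B x x = 0)
    (hy : B y y = 0) (hxu : B x u = 0) (hyu : B y u = 0) (hxy : B x y = 1) : Long h L u := by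
  intro d hd
  have hyx : B y x = 1 := by rw [← h.symm, hxy, map_one]
  obtain ⟨t, ht⟩ := h.exists_trace 1 (map_one σ)
  have hσd : σ d = -d := by linear_combination hd
  set a := d * t with ha
  have hax : B (a • x) u = 0 := by rw [h.smul_left, hxu, mul_zero]
  have hay : B ((1 : F) • y) u = 0 := by rw [one_smul, hyu]
  have fx := fill_sing hx h a
  have fy := fill_sing hy h 1
  have hm := L.mul_mem (L.mul_mem (h₁ a) (h₂ 1)) (L.inv_mem (L.mul_mem (h₂ 1) (h₁ a)))
  have hsum : B ((1 : F) • y + a • x) u = 0 := by rw [h.add_left, hay, hax, add_zero]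
  rw [ue_mul hu hax hay fx fy, ue_mul hu hay hax fy fx, ue_inv hu hsum (fill_mul fy fx h),
    ue_mul hu (by rw [h.add_left, hay, hax, add_zero]) (by rw [h.neg_left, hsum, neg_zero]) (fill_mul fx fy h)
      (by rw [h.invol, h.neg_left, h.neg_right, neg_neg]; linear_combination fill_mul fy fx h)] at hm
  convert hm using 2
  · module
  · simp only [h.smul_left, h.smul_right, h.neg_left, h.neg_right, h.add_left, h.add_right, hx, hy, hxy, hyx,
      map_one, map_zero, map_sub, map_neg, map_mul, map_add, ha, hσd, one_mul, mul_one, mul_zero, add_zero, zero_add]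
    linear_combination (-d) * ht

/-- Long root group from a short one of a unit vector. -/
theorem Long.of_short {u w : V} (h₁ : Short h L u w) (hu : B u u = 0) (hwu : B w u = 0) (hw : B w w = 1) :
    Long h L u := by
  intro d hd
  obtain ⟨t, ht⟩ := h.exists_trace 1 (map_one σ)
  have hσd : σ d = -d := by linear_combination hd
  set a := d * t with ha
  obtain ⟨c, hc, hm⟩ := h₁ a
  obtain ⟨c', hc', hm'⟩ := h₁ 1
  have hax : B (a • w) u = 0 := by rw [h.smul_left, hwu, mul_zero]
  have hay : B ((1 : F) • w) u = 0 := by rw [one_smul, hwu]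
  have hsum : B ((1 : F) • w + a • w) u = 0 := by rw [h.add_left, hay, hax, add_zero]
  have hm2 := L.mul_mem (L.mul_mem hm hm') (L.inv_mem (L.mul_mem hm' hm))
  rw [ue_mul hu hax hay hc hc', ue_mul hu hay hax hc' hc, ue_inv hu hsum (fill_mul hc' hc h),
    ue_mul hu (by rw [h.add_left, hay, hax, add_zero]) (by rw [h.neg_left, hsum, neg_zero]) (fill_mul hc hc' h)
      (by rw [h.invol, h.neg_left, h.neg_right, neg_neg]; linear_combination fill_mul hc' hc h)] at hm2
  convert hm2 using 2
  · module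
  · have h1 := hc
    have h2 := hc'
    simp only [h.smul_left, h.smul_right, h.neg_left, h.neg_right, h.add_left, h.add_right, hw, map_one,
      map_sub, map_neg, map_mul, map_add, h.invol, ha, hσd, one_mul, mul_one] at h1 h2 ⊢
    linear_combination (-d) * ht - h1 - h2

end Cfsg.Agent.Lib.UnitGen
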