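import Cfsg.Agent.Lib.UnitGen.Basic

/-!
Frames of hyperbolic planes over a tail of dimension at most one, the Coxeter element and root orbits.
-/

set_option autoImplicit false

namespace Cfsg.Agent.Lib.UnitGen

open Cfsg.Agent.Lib.Classical

variable {F : Type*} [Field F] {σ : F →+* F} {V : Type*} [AddCommGroup V] [Module F V] {B : V → V → F}
  {h : HermSpace σ B}

/-- `N` hyperbolic planes over the span of `w0`; `w0` is zero or a unit vector. -/
structure Frame (B : V → V → F) (N : ℕ) (e f : ℕ → V) (w0 : V) : Prop where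
  ee : ∀ i j, B (e i) (e j) = 0
  ff : ∀ i j, B (f i) (f j) = 0
  ef : ∀ i, i < N → B (e i) (f i) = 1
  fe : ∀ i, i < N → B (f i) (e i) = 1
  ef_ne : ∀ i j, i ≠ j → B (e i) (f j) = 0
  fe_ne : ∀ i j, i ≠ j → B (f i) (e j) = 0
  w0e : ∀ i, B w0 (e i) = 0
  w0f : ∀ i, B w0 (f i) = 0
  ew0 : ∀ i, B (e i) w0 = 0
  fw0 : ∀ i, B (f i) w0 = 0
  unit : w0 = 0 ∨ B w0 w0 = 1
  span : ∀ x, B x (e 0) = 0 → B x (f 0) = 0 →
    x ∈ Submodule.span F ({v | ∃ i, 0 < i ∧ i < N ∧ (v = e i ∨ v = f i)} ∪ {w0})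

variable {N : ℕ} {e f : ℕ → V} {w0 : V}

/-- The flip of a pair by long root elements. -/
noncomputable def flip (h : HermSpace σ B) (u v : V) (d : F) : V ≃ₗ[F] V :=
  ue h u 0 d * ue h v 0 (-d⁻¹) * ue h u 0 d

theorem flip_fix {u v x : V} (d : F) (hxu : B x u = 0) (hxv : B x v = 0) : flip h u v d x = x := by
  simp only [flip, LinearEquiv.mul_apply, ue_fix d hxu (h.zero_right x), ue_fix _ hxv (h.zero_right x)]

theorem flip_vals {u v : V} (hu : B u u = 0) (hv : B v v = 0) (huv : B u v = 1) (hvu : B v u = 1) {d : F}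
    (hd0 : d ≠ 0) (hd : d + σ d = 0) :
    flip h u v d u = (-d⁻¹) • v ∧ flip h u v d v = d • u := by
  have hd' : -d⁻¹ + σ (-d⁻¹) = 0 := by
    rw [map_neg, map_inv₀, show σ d = -d by linear_combination hd, inv_neg]; ring
  simp only [flip, LinearEquiv.mul_apply, ue_apply hu (h.zero_left u) (fill_zero hd h),
    ue_apply hv (h.zero_left v) (fill_zero hd' h)]
  constructor <;>
    simp only [h.add_left, h.smul_left, h.zero_right, h.zero_left, hu, hv, huv, hvu, smul_zero, add_zero,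
      mul_one, mul_zero, zero_add, sub_zero, zero_smul] <;>
    match_scalars <;> field_simp <;> ring

/-- The permutation element of two planes. -/
noncomputable def pmove (h : HermSpace σ B) (e f : ℕ → V) (i j : ℕ) (t : F) : V ≃ₗ[F] V :=
  ue h (e i) (t • f j) 0 * ue h (f i) ((σ t)⁻¹ • e j) 0 * ue h (e i) (t • f j) 0

theorem pmove_fix {i j : ℕ} (t : F) {y : V} (h1 : B y (e i) = 0) (h2 : B y (f i) = 0) (h3 : B y (e j) = 0)
    (h4 : B y (f j) = 0) : pmove h e f i j t y = y := by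
  have a1 : B y (t • f j) = 0 := by rw [h.smul_right, h4, mul_zero]
  have a2 : B y ((σ t)⁻¹ • e j) = 0 := by rw [h.smul_right, h3, mul_zero]
  simp only [pmove, LinearEquiv.mul_apply, ue_fix _ h1 a1, ue_fix _ h2 a2]

theorem pmove_vals (h : HermSpace σ B) (hF : Frame B N e f w0) {i j : ℕ} (hi : i < N) (hj : j < N) (hij : i ≠ j)
    {t : F} (ht : t ≠ 0) :
    pmove h e f i j t (e i) = (σ t)⁻¹ • e j ∧ pmove h e f i j t (e j) = (-σ t) • e i ∧
    pmove h e f i j t (f i) = t • f j ∧ pmove h e f i j t (f j) = (-t⁻¹) • f i := by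
  have hs : σ t ≠ 0 := (map_ne_zero σ).2 ht
  have c1 : B (t • f j) (e i) = 0 := by rw [h.smul_left, hF.fe_ne _ _ (Ne.symm hij), mul_zero]
  have c2 : B ((σ t)⁻¹ • e j) (f i) = 0 := by rw [h.smul_left, hF.ef_ne _ _ (Ne.symm hij), mul_zero]
  simp only [pmove, LinearEquiv.mul_apply, ue_apply (hF.ee i i) c1 (fill_sing (hF.ff j j) h t),
    ue_apply (hF.ff i i) c2 (fill_sing (hF.ee j j) h _)]
  refine ⟨?_, ?_, ?_, ?_⟩ <;>
    simp only [h.add_left, h.smul_left, h.smul_right, h.sub_left, hF.ee, hF.ff, hF.ef i hi, hF.ef j hj, hF.fe i hi,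
      hF.fe j hj, hF.ef_ne _ _ hij, hF.ef_ne _ _ (Ne.symm hij), hF.fe_ne _ _ hij, hF.fe_ne _ _ (Ne.symm hij),
      map_inv₀, h.invol] <;>
    match_scalars <;> field_simp <;> ring

/-- Product of the first `k` neighbour moves. -/
noncomputable def chain (h : HermSpace σ B) (e f : ℕ → V) : ℕ → (V ≃ₗ[F] V)
  | 0 => 1
  | k + 1 => chain h e f k * pmove h e f k (k + 1) (-1)

theorem chain_mem : ∀ k, chain h e f k ∈ uGroup h
  | 0 => one_mem _
  | k + 1 => mul_mem (chain_mem k) (mul_mem (mul_mem (ue_mem_uGroup _ _ _) (ue_mem_uGroup _ _ _)) (ue_mem_uGroup _ _ _))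

theorem chain_fix : ∀ (k : ℕ) {y : V}, (∀ i, i ≤ k → B y (e i) = 0 ∧ B y (f i) = 0) → chain h e f k y = y
  | 0, y, _ => rfl
  | k + 1, y, hy => by
    rw [chain, LinearEquiv.mul_apply, pmove_fix _ (hy k (by omega)).1 (hy k (by omega)).2 (hy (k + 1) le_rfl).1
      (hy (k + 1) le_rfl).2]
    exact chain_fix k fun i hi => hy i (by omega)

theorem chain_vals (h : HermSpace σ B) (hF : Frame B N e f w0) : ∀ {k : ℕ}, k < N →
    (∀ i, i < k → chain h e f k (e i) = -e (i + 1) ∧ chain h e f k (f i) = -f (i + 1)) ∧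
    chain h e f k (e k) = e 0 ∧ chain h e f k (f k) = f 0
  | 0, _ => ⟨fun i hi => absurd hi (Nat.not_lt_zero i), rfl, rfl⟩
  | k + 1, hk => by
    obtain ⟨ih, ihe, ihf⟩ := chain_vals h hF (k := k) (by omega)
    obtain ⟨n1, n3, n2, n4⟩ := pmove_vals h hF (show k < N by omega) hk (by omega) (neg_ne_zero.2 (one_ne_zero (α := F)))
    rw [map_neg, map_one] at n1 n3
    simp only [inv_neg, inv_one, neg_neg, one_smul, neg_smul] at n1 n2 n3 n4
    refine ⟨fun i hi => ?_, ?_, ?_⟩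
    · by_cases hik : i = k
      · subst hik
        simp only [chain, LinearEquiv.mul_apply, n1, n2, map_neg]
        exact ⟨by rw [chain_fix i fun j hj => ⟨hF.ee _ _, hF.ef_ne _ _ (by omega)⟩],
          by rw [chain_fix i fun j hj => ⟨hF.fe_ne _ _ (by omega), hF.ff _ _⟩]⟩
      · simp only [chain, LinearEquiv.mul_apply]
        rw [pmove_fix _ (hF.ee _ _) (hF.ef_ne _ _ hik) (hF.ee _ _) (hF.ef_ne _ _ (by omega)),
          pmove_fix _ (hF.fe_ne _ _ hik) (hF.ff _ _) (hF.fe_ne _ _ (by omega)) (hF.ff _ _)]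
        exact ih i (by omega)
    · rw [chain, LinearEquiv.mul_apply, n3, ihe]
    · rw [chain, LinearEquiv.mul_apply, n4, ihf]

/-- The Coxeter element. -/
noncomputable def cox (h : HermSpace σ B) (N : ℕ) (e f : ℕ → V) (d : F) : V ≃ₗ[F] V :=
  chain h e f (N - 1) * flip h (e (N - 1)) (f (N - 1)) d

theorem cox_mem (d : F) : cox h N e f d ∈ uGroup h :=
  mul_mem (chain_mem _) (mul_mem (mul_mem (ue_mem_uGroup _ _ _) (ue_mem_uGroup _ _ _)) (ue_mem_uGroup _ _ _))

theorem cox_ev (h : HermSpace σ B) (hF : Frame B N e f w0) (d : F) {i : ℕ} (hi : i + 1 < N) :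
    cox h N e f d (e i) = -e (i + 1) ∧ cox h N e f d (f i) = -f (i + 1) := by
  have hne : i ≠ N - 1 := by omega
  simp only [cox, LinearEquiv.mul_apply]
  rw [flip_fix _ (hF.ee _ _) (hF.ef_ne _ _ hne), flip_fix _ (hF.fe_ne _ _ hne) (hF.ff _ _)]
  exact (chain_vals h hF (k := N - 1) (by omega)).1 i (by omega)

theorem cox_ev_last (h : HermSpace σ B) (hF : Frame B N e f w0) (hN : 1 ≤ N) {d : F} (hd0 : d ≠ 0) (hd : d + σ d = 0) :
    cox h N e f d (e (N - 1)) = (-d⁻¹) • f 0 ∧ cox h N e f d (f (N - 1)) = d • e 0 := by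
  obtain ⟨h1, h2⟩ := flip_vals (h := h) (hF.ee (N - 1) (N - 1)) (hF.ff (N - 1) (N - 1)) (hF.ef _ (by omega))
    (hF.fe _ (by omega)) hd0 hd
  obtain ⟨-, he, hf⟩ := chain_vals h hF (k := N - 1) (by omega)
  simp only [cox, LinearEquiv.mul_apply, h1, h2, map_smul, he, hf, and_self]

theorem cox_tail (h : HermSpace σ B) (hF : Frame B N e f w0) (d : F) : cox h N e f d w0 = w0 := by
  rw [cox, LinearEquiv.mul_apply, flip_fix _ (hF.w0e _) (hF.w0f _)]
  exact chain_fix _ fun i _ => ⟨hF.w0e i, hF.w0f i⟩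

variable {L : Subgroup (V ≃ₗ[F] V)}

theorem shift_roots (hL : L ≤ biIsoGroup B) {g : V ≃ₗ[F] V} (hg : g ∈ L)
    {φ ψ : ℕ → V} (hφ : ∀ i, i + 1 < N → g (φ i) = -φ (i + 1))
    (hψ : ∀ i, i + 1 < N → g (ψ i) = -ψ (i + 1))
    (hQ : ∀ i, B (φ i) (φ i) = 0) (hQ' : ∀ i, B (ψ i) (ψ i) = 0) (ho : ∀ i j, i ≠ j → B (ψ j) (φ i) = 0)
    {a b : ℕ} (hab : a ≠ b)
    (h0 : Root h L (φ a) (ψ b)) : ∀ k, a + k < N → b + k < N → Root h L (φ (a + k)) (ψ (b + k)) := by
  intro k
  induction k with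
  | zero => intro _ _; exact h0
  | succ k ih =>
    intro ha hb
    have := (ih (by omega) (by omega)).conj hL hg
    rw [hφ _ (by omega), hψ _ (by omega), ← neg_one_smul F (φ _), ← neg_one_smul F (ψ _)] at this
    exact this.of_smul (by simp) (by simp) (hQ _) (hQ' _) (ho _ _ (by omega))

/-- All root groups between different planes. -/
theorem planes_roots (hF : Frame B N e f w0) (hL : L ≤ biIsoGroup B) (hN : 2 ≤ N) {d : F} (hd0 : d ≠ 0)
    (hd : d + σ d = 0) (hσ : cox h N e f d ∈ L) (hT : Root h L (f 0) (e 1)) {i j : ℕ} (hi : i < N) (hj : j < N)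
    (hij : i ≠ j) :
    Root h L (e i) (e j) ∧ Root h L (e i) (f j) ∧ Root h L (f i) (e j) ∧ Root h L (f i) (f j) := by
  have he := fun i hi => (cox_ev h hF d (i := i) hi).1
  have hf := fun i hi => (cox_ev h hF d (i := i) hi).2
  obtain ⟨hel, hfl⟩ := cox_ev_last h hF (show 1 ≤ N by omega) hd0 hd
  have hdi : -d⁻¹ ≠ 0 := by simp [hd0]
  have step1 : ∀ i, i + 1 < N → Root h L (f i) (e (i + 1)) := fun i hi => by
    have := shift_roots hL hσ hf he (fun i => hF.ff i i) (fun i => hF.ee i i) (fun a b hab => hF.ef_ne b a (Ne.symm hab))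
      (Nat.zero_ne_one) hT i (by omega) (by omega)
    rwa [zero_add, add_comm 1] at this
  have fe : ∀ i j, i < j → j < N → Root h L (f i) (e j) := by
    intro i j hij
    induction j with
    | zero => omega
    | succ j ih =>
      intro hj
      by_cases hji : i = j
      · subst hji; exact step1 i hj
      · exact (ih (by omega) (by omega)).step hL (step1 j hj) (hF.ff _ _) (hF.ff _ _) (hF.ee _ _) (hF.ee _ _)
          (hF.ef_ne _ _ (by omega)) (hF.ef_ne _ _ (by omega)) (hF.ff _ _) (hF.ef_ne _ _ (by omega))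
          (hF.ef j (by omega)) (hF.ee _ _)
  have ff0 : ∀ k, 1 ≤ k → k < N → Root h L (f k) (f 0) := fun k h1 hk => by
    have := (fe (k - 1) (N - 1) (by omega) (by omega)).conj hL hσ
    rw [hf _ (by omega), hel, show k - 1 + 1 = k by omega, ← neg_one_smul F (f k)] at this
    exact this.of_smul (by simp) hdi (hF.ff _ _) (hF.ff _ _) (hF.ff _ _)
  have ff : ∀ i j, i < j → j < N → Root h L (f i) (f j) := fun i j hij hj => by
    have h' := shift_roots hL hσ hf hf (fun i => hF.ff i i) (fun i => hF.ff i i) (fun a b _ => hF.ff b a)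
      (show j - i ≠ 0 by omega) (ff0 (j - i) (by omega) (by omega)) i (by omega) (by omega)
    rw [Nat.sub_add_cancel hij.le, zero_add] at h'
    exact h'.symm (hF.ff _ _) (hF.ff _ _) (hF.ff _ _)
  have fe0 : ∀ k, 1 ≤ k → k < N → Root h L (f k) (e 0) := fun k h1 hk => by
    have := (ff (k - 1) (N - 1) (by omega) (by omega)).conj hL hσ
    rw [hf _ (by omega), hfl, show k - 1 + 1 = k by omega, ← neg_one_smul F (f k)] at this
    exact this.of_smul (by simp) hd0 (hF.ff _ _) (hF.ee _ _) (hF.ef_ne _ _ (by omega))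
  have fe' : ∀ i j, i < j → j < N → Root h L (f j) (e i) := fun i j hij hj => by
    have h' := shift_roots hL hσ hf he (fun i => hF.ff i i) (fun i => hF.ee i i) (fun a b hab => hF.ef_ne b a (Ne.symm hab))
      (show j - i ≠ 0 by omega) (fe0 (j - i) (by omega) (by omega)) i (by omega) (by omega)
    rwa [Nat.sub_add_cancel hij.le, zero_add] at h'
  have ee0 : ∀ k, 1 ≤ k → k < N → Root h L (e 0) (e k) := fun k h1 hk => by
    have := (fe' (k - 1) (N - 1) (by omega) (by omega)).conj hL hσ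
    rw [he _ (by omega), hfl, show k - 1 + 1 = k by omega, ← neg_one_smul F (e k)] at this
    exact this.of_smul hd0 (by simp) (hF.ee _ _) (hF.ee _ _) (hF.ee _ _)
  have ee : ∀ i j, i < j → j < N → Root h L (e i) (e j) := fun i j hij hj => by
    have h' := shift_roots hL hσ he he (fun i => hF.ee i i) (fun i => hF.ee i i) (fun a b _ => hF.ee b a)
      (show 0 ≠ j - i by omega) (ee0 (j - i) (by omega) (by omega)) i (by omega) (by omega)
    rwa [Nat.sub_add_cancel hij.le, zero_add] at h'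
  have fe_all : ∀ i j, i ≠ j → i < N → j < N → Root h L (f i) (e j) := fun i j hij hi hj => by
    rcases lt_or_gt_of_ne hij with hlt | hlt
    exacts [fe i j hlt hj, fe' j i hlt hi]
  refine ⟨?_, (fe_all j i hij.symm hj hi).symm (hF.ff _ _) (hF.ee _ _) (hF.ef_ne _ _ hij), fe_all i j hij hi hj, ?_⟩
  · rcases lt_or_gt_of_ne hij with hlt | hlt
    exacts [ee i j hlt hj, (ee j i hlt hi).symm (hF.ee _ _) (hF.ee _ _) (hF.ee _ _)]
  · rcases lt_or_gt_of_ne hij with hlt | hlt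
    exacts [ff i j hlt hj, (ff j i hlt hi).symm (hF.ff _ _) (hF.ff _ _) (hF.ff _ _)]

/-- The first plane root between two planes from short root groups. -/
theorem root_of_short (hF : Frame B N e f w0) (hL : L ≤ biIsoGroup B) (hN : 2 ≤ N) (hw : B w0 w0 = 1)
    (hs : Short h L (f 0) w0) (hs' : Short h L (e 1) w0) : Root h L (f 0) (e 1) := by
  intro t
  obtain ⟨c, hc, hm⟩ := hs (-t)
  obtain ⟨c', hc', hm'⟩ := hs' 1
  have h1 : B ((-t) • w0) (f 0) = 0 := by rw [h.smul_left, hF.w0f, mul_zero]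
  have h2 : B ((1 : F) • w0) (e 1) = 0 := by rw [h.smul_left, hF.w0e, mul_zero]
  have hg := L.mul_mem (L.mul_mem hm' hm) (L.inv_mem hm')
  rw [ue_conj (hL hm'), ue_fix c' (hF.fe_ne _ _ zero_ne_one) (by rw [h.smul_right, hF.fw0, mul_zero]), map_smul,
    ue_apply (hF.ee 1 1) h2 hc', hF.w0e, h.smul_right, map_one, hw] at hg
  simp only [zero_smul, add_zero, mul_zero, mul_one, zero_sub, neg_smul, one_smul] at hg
  have h3 : B (-(t • (w0 + -e 1))) (f 0) = 0 := by
    rw [h.neg_left, h.smul_left, h.add_left, h.neg_left, hF.w0f, hF.ef_ne _ _ one_ne_zero]; ring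
  have f3 : c + σ c + B (-(t • (w0 + -e 1))) (-(t • (w0 + -e 1))) = 0 := by
    rw [← hc]
    simp only [h.neg_left, h.neg_right, h.smul_left, h.smul_right, h.add_left, h.add_right, map_neg, hF.ee, hF.w0e,
      hF.ew0]
    ring
  have hm2 := L.mul_mem (L.inv_mem hm) hg
  rw [ue_inv (hF.ff 0 0) h1 hc, ue_mul (hF.ff 0 0) (by rw [h.neg_left, h1, neg_zero]) h3
    (by rw [h.invol, h.neg_left, h.neg_right, neg_neg]; linear_combination hc) f3] at hm2
  convert hm2 using 2
  · module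
  · simp only [h.neg_left, h.neg_right, h.smul_left, h.smul_right, h.add_left, h.add_right, map_neg, hF.ew0, hw] at hc ⊢
    linear_combination -hc

/-- Short root groups at every plane vector. -/
theorem tail_roots (hF : Frame B N e f w0) (hL : L ≤ biIsoGroup B) (hN : 2 ≤ N) {d : F} (hd0 : d ≠ 0)
    (hd : d + σ d = 0) (hσ : cox h N e f d ∈ L) (hT : Root h L (f 0) (e 1))
    {a : ℕ} (ha : a < N) (h0 : Short h L (e a) w0 ∨ Short h L (f a) w0) :
    ∀ b, b < N → Short h L (e b) w0 ∧ Short h L (f b) w0 := by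
  have move : ∀ a, a < N → (Short h L (e a) w0 ∨ Short h L (f a) w0) →
      ∀ b, b < N → b ≠ a → Short h L (e b) w0 ∧ Short h L (f b) w0 := by
    intro a ha h0 b hb hba
    obtain ⟨ee, ef, fe, ff⟩ := planes_roots hF hL hN hd0 hd hσ hT hb ha hba
    rcases h0 with h0 | h0
    · exact ⟨ef.shortStep hL h0 ee (hF.ee _ _) (hF.ee _ _) (hF.ff _ _) (hF.fe_ne _ _ (Ne.symm hba)) (hF.ee _ _) (hF.w0e _)
          (hF.w0e _) (hF.fe a ha) (hF.fw0 _),
        ff.shortStep hL h0 fe (hF.ff _ _) (hF.ee _ _) (hF.ff _ _) (hF.ff _ _) (hF.fe_ne _ _ hba) (hF.w0f _) (hF.w0e _)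
          (hF.fe a ha) (hF.fw0 _)⟩
    · exact ⟨ee.shortStep hL h0 ef (hF.ee _ _) (hF.ff _ _) (hF.ee _ _) (hF.ee _ _) (hF.ef_ne _ _ hba) (hF.w0e _) (hF.w0f _)
          (hF.ef a ha) (hF.ew0 _),
        fe.shortStep hL h0 ff (hF.ff _ _) (hF.ff _ _) (hF.ee _ _) (hF.ef_ne _ _ (Ne.symm hba)) (hF.ff _ _) (hF.w0f _)
          (hF.w0f _) (hF.ef a ha) (hF.ew0 _)⟩
  intro b hb
  by_cases hba : b = a
  · subst hba
    obtain ⟨c, hc, hcb⟩ : ∃ c, c < N ∧ c ≠ b :=
      ⟨if b = 0 then 1 else 0, by split_ifs <;> omega, by split_ifs <;> omega⟩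
    exact move c hc (Or.inl (move b hb h0 c hc hcb).1) b hb hcb.symm
  · exact move a ha h0 b hb hba

end Cfsg.Agent.Lib.UnitGen
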