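import Cfsg.Agent.Lib.UnitGen.Frame

/-!
Two elements whose group contains all root groups at the first plane of a unitary frame.
-/

set_option autoImplicit false

namespace Cfsg.Agent.Lib.UnitGen

open Cfsg.Agent.Lib.Classical

variable {F : Type*} [Field F] {σ : F →+* F} {V : Type*} [AddCommGroup V] [Module F V] {B : V → V → F}
  {h : HermSpace σ B} {N : ℕ} {e f : ℕ → V} {w0 : V}

/-- An element of large multiplicative order spans the field additively. -/
theorem mem_of_large_order [Finite F] {q : ℕ} (hcard : Nat.card F = q ^ 2) {χ β : F} (hβ : β ≠ 0)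
    (hχ : ∀ j, 0 < j → j ≤ q - 1 → χ ^ j ≠ 1) (hχ0 : χ ≠ 0) (S : AddSubgroup F) (hS : ∀ k : ℕ, χ ^ k * β ∈ S)
    (t : F) : t ∈ S := by
  classical
  have ftF : Fintype F := Fintype.ofFinite F
  set R := Subring.closure ({χ} : Set F) with hR
  let K : Subfield F :=
    { R with
      inv_mem' := fun x hx => by
        by_cases hx0 : x = 0
        · rw [hx0, inv_zero]; exact R.zero_mem
        · rw [show x⁻¹ = x ^ (Fintype.card F - 2) from inv_eq_of_mul_eq_one_right (by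
            rw [← pow_succ', show Fintype.card F - 2 + 1 = Fintype.card F - 1 by
              have := Fintype.one_lt_card (α := F); omega]
            exact FiniteField.pow_card_sub_one_eq_one x hx0)]
          exact R.pow_mem hx _ }
  have hχK : χ ∈ K := Subring.subset_closure rfl
  have hKtop : ∀ x : F, x ∈ R := by
    by_contra hne
    push Not at hne
    obtain ⟨x, hx⟩ := hne
    have hd := Module.natCard_eq_pow_finrank (K := K) (V := F)
    have h1 : 2 ≤ Module.finrank K F := by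
      by_contra h1
      have h2 : Nat.card F ≤ Nat.card K := by
        rw [hd]
        calc Nat.card K ^ Module.finrank K F ≤ Nat.card K ^ 1 := Nat.pow_le_pow_right Nat.card_pos (by omega)
          _ = _ := pow_one _
      have hsurj : Function.Surjective (K.subtype : K → F) :=
        ((K.subtype.injective).bijective_of_nat_card_le h2).2
      obtain ⟨y, hy⟩ := hsurj x
      exact hx (hy ▸ y.2)
    have hle : Nat.card K ≤ q := by
      have : Nat.card K ^ 2 ≤ q ^ 2 := by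
        rw [← hcard, hd]; exact Nat.pow_le_pow_right Nat.card_pos h1
      exact (Nat.pow_le_pow_iff_left (by norm_num)).1 this
    have h1K : 1 < Nat.card K := Finite.one_lt_card
    have h3 : (⟨χ, hχK⟩ : K) ^ (Nat.card K - 1) = 1 := by
      have ftK : Fintype K := Fintype.ofFinite K
      rw [Nat.card_eq_fintype_card]
      exact FiniteField.pow_card_sub_one_eq_one _ fun e => hχ0 (congrArg Subtype.val e)
    exact hχ (Nat.card K - 1) (by omega) (by omega) (congrArg Subtype.val h3)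
  have hall : ∀ x ∈ R, x * β ∈ S := fun x hx => by
    rw [hR, Subring.mem_closure_iff] at hx
    induction hx using AddSubgroup.closure_induction with
    | mem y hy =>
      obtain ⟨k, rfl⟩ : ∃ k : ℕ, χ ^ k = y := Submonoid.mem_closure_singleton.1 hy
      exact hS k
    | zero => rw [zero_mul]; exact S.zero_mem
    | add a b _ _ ha hb => rw [add_mul]; exact S.add_mem ha hb
    | neg a _ ha => rw [neg_mul]; exact S.neg_mem ha
  have := hall (t / β) (hKtop _)
  rwa [div_mul_cancel₀ _ hβ] at this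

/-- Some Eichler transformation at `t • y`, exact when `y` is isotropic. -/
def GoodAt (h : HermSpace σ B) (L : Subgroup (V ≃ₗ[F] V)) (u y : V) (t : F) : Prop :=
  ∃ c, c + σ c + B (t • y) (t • y) = 0 ∧ (B y y = 0 → c = 0) ∧ ue h u (t • y) c ∈ L

theorem conj_ue_diag {g : V ≃ₗ[F] V} (hg : g ∈ biIsoGroup B) {u y : V} {a b : F} (hu : B u u = 0) (hyu : B y u = 0)
    (hgu : g u = a • u) (hgy : g y = b • y) {t c : F} (hc : c + σ c + B (t • y) (t • y) = 0) :
    g * ue h u (t • y) c * g⁻¹ = ue h u ((σ a * b * t) • y) (a * σ a * c) ∧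
    a * σ a * c + σ (a * σ a * c) + B ((σ a * b * t) • y) ((σ a * b * t) • y) = 0 := by
  have hb : b * σ b * B y y = B y y := by
    have := hg y y
    rw [hgy, h.smul_left, h.smul_right] at this
    linear_combination this
  have hgc : c + σ c + B (t • b • y) (t • b • y) = 0 := by
    simp only [h.smul_left, h.smul_right] at hc ⊢
    linear_combination hc + (t * σ t) * hb
  constructor
  · rw [ue_conj hg, hgu, map_smul, hgy,
      ue_smul_left hu (by rw [h.smul_left, h.smul_left, hyu, mul_zero, mul_zero]) hgc, smul_smul, smul_smul]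
    congr 2
    ring
  · simp only [h.smul_left, h.smul_right, map_mul, h.invol] at hc ⊢
    linear_combination (a * σ a) * hc + (a * σ a * (t * σ t)) * hb

/-- A diagonal element and a twisted root element give the whole root group and the twisting element. -/
theorem engine [Finite F] {q : ℕ} (hcard : Nat.card F = q ^ 2) {L : Subgroup (V ≃ₗ[F] V)} (hL : L ≤ biIsoGroup B)
    {hh s : V ≃ₗ[F] V} (hhh : hh ∈ L) (hsi : s ∈ biIsoGroup B) {u y : V} {c : F} (hu : B u u = 0) (hyu : B y u = 0)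
    (hc : c + σ c + B y y = 0) (hc0 : B y y = 0 → c = 0) (hb : ue h u y c * s ∈ L)
    {a b a' b' : F} (ha : a ≠ 0) (hb0 : b ≠ 0) (ha' : a' ≠ 0) (hb0' : b' ≠ 0)
    (hhu : hh u = a • u) (hhy : hh y = b • y)
    (hsu : s (hh (s.symm u)) = a' • u) (hsy : s (hh (s.symm y)) = b' • y)
    (hcomm : Commute hh (s * hh * s⁻¹))
    (hne : σ a' * b' ≠ 1) (hord : ∀ j, 0 < j → j ≤ q - 1 → (σ a * b) ^ j ≠ 1) :
    ∀ t, GoodAt h L u y t := by
  set χ := σ a * b with hχ
  have hhi : hh ∈ biIsoGroup B := hL hhh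
  have hχ0 : χ ≠ 0 := mul_ne_zero ((map_ne_zero σ).2 ha) hb0
  have hKi : (s * hh * s⁻¹)⁻¹ ∈ biIsoGroup B := inv_mem (mul_mem (mul_mem hsi hhi) (inv_mem hsi))
  set G := hh * (s * hh * s⁻¹)⁻¹ with hG
  have hGi : G ∈ biIsoGroup B := mul_mem hhi hKi
  have hGu : G u = (a * a'⁻¹) • u := by
    have : (s * hh * s⁻¹)⁻¹ u = a'⁻¹ • u := (s * hh * s⁻¹).symm_apply_eq.2 (by
      rw [map_smul]
      show u = a'⁻¹ • s (hh (s.symm u))
      rw [hsu, inv_smul_smul₀ ha'])
    show hh ((s * hh * s⁻¹)⁻¹ u) = _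
    rw [this, map_smul, hhu, smul_smul, mul_comm]
  have hGy : G y = (b * b'⁻¹) • y := by
    have : (s * hh * s⁻¹)⁻¹ y = b'⁻¹ • y := (s * hh * s⁻¹).symm_apply_eq.2 (by
      rw [map_smul]
      show y = b'⁻¹ • s (hh (s.symm y))
      rw [hsy, inv_smul_smul₀ hb0'])
    show hh ((s * hh * s⁻¹)⁻¹ y) = _
    rw [this, map_smul, hhy, smul_smul, mul_comm]
  have hy0 : ∀ t : F, B (t • y) u = 0 := fun t => by rw [h.smul_left, hyu, mul_zero]
  have hnegy : ∀ (t : F) {c₁ : F}, c₁ + σ c₁ + B (t • y) (t • y) = 0 →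
      σ c₁ + σ (σ c₁) + B ((-t) • y) ((-t) • y) = 0 := fun t c₁ hc₁ => by
    rw [h.invol, neg_smul, h.neg_left, h.neg_right, neg_neg]; linear_combination hc₁
  let A : AddSubgroup F :=
    { carrier := {t | GoodAt h L u y t}
      zero_mem' := ⟨0, by simp [h.zero_left], fun _ => rfl, by rw [zero_smul, ue_zero]; exact L.one_mem⟩
      add_mem' := fun {t t'} ht ht' => by
        obtain ⟨c₁, f1, e1, m1⟩ := ht
        obtain ⟨c₂, f2, e2, m2⟩ := ht'
        refine ⟨c₁ + c₂ - B (t' • y) (t • y), ?_, fun hy => ?_, ?_⟩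
        · rw [_root_.add_smul]; exact fill_mul f1 f2 h
        · rw [e1 hy, e2 hy, h.smul_left, h.smul_right, hy]; ring
        · rw [_root_.add_smul, ← ue_mul hu (hy0 _) (hy0 _) f1 f2]; exact L.mul_mem m1 m2
      neg_mem' := fun {t} ht => by
        obtain ⟨c₁, f1, e1, m1⟩ := ht
        refine ⟨σ c₁, hnegy t f1, fun hy => by rw [e1 hy, map_zero], ?_⟩
        rw [neg_smul, ← ue_inv hu (hy0 _) f1]; exact L.inv_mem m1 }
  have hscale : ∀ t, t ∈ A → χ * t ∈ A := by
    rintro t ⟨c₁, f1, e1, m1⟩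
    obtain ⟨ec, fc⟩ := conj_ue_diag (h := h) hhi hu hyu hhu hhy f1
    exact ⟨_, fc, fun hy => by rw [e1 hy, mul_zero], ec ▸ L.mul_mem (L.mul_mem hhh m1) (L.inv_mem hhh)⟩
  -- the two commutators
  have h1 : (1 : F) • y = y := one_smul F y
  obtain ⟨eT, fT⟩ := conj_ue_diag (h := h) hhi hu hyu hhu hhy (t := 1) (c := c) (by rw [h1]; exact hc)
  obtain ⟨eG, fG⟩ := conj_ue_diag (h := h) hGi hu hyu hGu hGy (t := -1) (c := σ c)
    (hnegy 1 (by rw [h1]; exact hc))
  rw [h1] at eT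
  rw [show ((-1 : F) • y) = -y by module, ← ue_inv hu hyu hc] at eG
  set γ := σ a * b * 1 + σ (a * a'⁻¹) * (b * b'⁻¹) * -1 with hγ
  set c' := a * σ a * c + a * a'⁻¹ * σ (a * a'⁻¹) * σ c
      - B ((σ (a * a'⁻¹) * (b * b'⁻¹) * -1) • y) ((σ a * b * 1) • y) with hc'
  have fγ : c' + σ c' + B (γ • y) (γ • y) = 0 := by rw [hγ, _root_.add_smul]; exact fill_mul fT fG h
  have hγm : ue h u (γ • y) c' * G ∈ L := by
    have := L.mul_mem (L.mul_mem (L.mul_mem hhh hb) (L.inv_mem hhh)) (L.inv_mem hb)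
    convert this using 1
    rw [hγ, _root_.add_smul, hc', ← ue_mul hu (hy0 _) (hy0 _) fT fG, ← eT, ← eG, hG]
    group
  have hGc : Commute hh G := (Commute.refl hh).mul_right hcomm.inv_right
  obtain ⟨eγ, fγ'⟩ := conj_ue_diag (h := h) hhi hu hyu hhu hhy fγ
  have hβmem : χ * γ - γ ∈ A := by
    refine ⟨a * σ a * c' + σ c' - B ((-γ) • y) ((χ * γ) • y), ?_, fun hy => ?_, ?_⟩
    · rw [sub_eq_add_neg (χ * γ) γ, _root_.add_smul]
      exact fill_mul fγ' (hnegy γ fγ) h
    · rw [hc', hc0 hy, map_zero, h.smul_left, h.smul_right, h.smul_left, h.smul_right, hy]; simp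
    · have := L.mul_mem (L.mul_mem (L.mul_mem hhh hγm) (L.inv_mem hhh)) (L.inv_mem hγm)
      rw [sub_eq_add_neg (χ * γ) γ, _root_.add_smul, ← ue_mul hu (hy0 _) (hy0 _) fγ' (hnegy γ fγ), neg_smul,
        ← ue_inv hu (hy0 _) fγ, ← eγ]
      convert this using 1
      rw [← mul_assoc hh, mul_assoc (hh * ue h u (γ • y) c') G, ← hGc.inv_left.eq, _root_.mul_inv_rev]
      group
  have hγ0 : χ * γ - γ ≠ 0 := by
    have hq : 2 ≤ q := by
      by_contra hq
      have h2 : 1 < Nat.card F := Finite.one_lt_card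
      have h4 : q ^ 2 ≤ 1 := by
        calc q ^ 2 ≤ 1 ^ 2 := Nat.pow_le_pow_left (by omega) 2
          _ = 1 := one_pow 2
      omega
    have hχ1 : χ ≠ 1 := fun e => hord 1 Nat.one_pos (by omega) (by rw [pow_one]; exact e)
    have hσa' : σ a' ≠ 0 := (map_ne_zero σ).2 ha'
    rw [← sub_one_mul]
    refine mul_ne_zero (sub_ne_zero.2 hχ1) ?_
    have : γ = χ * (1 - (σ a' * b')⁻¹) := by
      rw [hγ, hχ, map_mul, map_inv₀]; field_simp; ring
    rw [this]
    exact mul_ne_zero hχ0 (sub_ne_zero.2 fun e => hne (inv_eq_one.1 e.symm))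
  exact mem_of_large_order hcard hγ0 hord hχ0 A fun k => by
    induction k with
    | zero => rw [pow_zero, one_mul]; exact hβmem
    | succ k ih => rw [pow_succ', mul_assoc]; exact hscale _ ih

/-- Everything at the first plane. -/
theorem first_plane (hF : Frame B N e f w0) {L : Subgroup (V ≃ₗ[F] V)} {u : V} (hu : B u u = 0)
    (hue : ∀ i, 0 < i → i < N → B (e i) u = 0 ∧ B (f i) u = 0 ∧ Root h L u (e i) ∧ Root h L u (f i))
    (hwu : B w0 u = 0) (hs : Short h L u w0) (hl : Long h L u) {x : V} (hxe : B x (e 0) = 0) (hxf : B x (f 0) = 0)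
    {c : F} (hc : c + σ c + B x x = 0) : ue h u x c ∈ L := by
  obtain ⟨hxu, hgood⟩ : B x u = 0 ∧ Short h L u x := by
    have hx := hF.span x hxe hxf
    clear hxe hxf hc
    induction hx using Submodule.span_induction with
    | mem v hv =>
      rcases hv with ⟨i, hi0, hiN, rfl | rfl⟩ | rfl
      · exact ⟨(hue i hi0 hiN).1, fun t => ⟨0, fill_sing (hF.ee i i) h t, (hue i hi0 hiN).2.2.1 t⟩⟩
      · exact ⟨(hue i hi0 hiN).2.1, fun t => ⟨0, fill_sing (hF.ff i i) h t, (hue i hi0 hiN).2.2.2 t⟩⟩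
      · exact ⟨hwu, hs⟩
    | zero =>
      exact ⟨h.zero_left u, fun t => ⟨0, by simp [h.zero_left], by rw [smul_zero, ue_zero]; exact L.one_mem⟩⟩
    | add v w _ _ hv hw =>
      refine ⟨by rw [h.add_left, hv.1, hw.1, add_zero], fun t => ?_⟩
      obtain ⟨c1, f1, m1⟩ := hv.2 t
      obtain ⟨c2, f2, m2⟩ := hw.2 t
      refine ⟨_, by rw [_root_.smul_add]; exact fill_mul f1 f2 h, ?_⟩
      rw [_root_.smul_add, ← ue_mul hu (by rw [h.smul_left, hv.1, mul_zero]) (by rw [h.smul_left, hw.1, mul_zero]) f1 f2]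
      exact L.mul_mem m1 m2
    | smul a v _ hv =>
      refine ⟨by rw [h.smul_left, hv.1, mul_zero], fun t => ?_⟩
      obtain ⟨c1, f1, m1⟩ := hv.2 (t * a)
      exact ⟨c1, by rw [smul_smul]; exact f1, by rw [smul_smul]; exact m1⟩
  obtain ⟨c', f', m'⟩ := hgood 1
  rw [one_smul] at f' m'
  have hd : (c - c') + σ (c - c') = 0 := by rw [map_sub]; linear_combination hc - f'
  have := L.mul_mem m' (hl _ hd)
  rw [ue_mul hu hxu (h.zero_left u) f' (fill_zero hd h), add_zero, h.zero_left, sub_zero, add_sub_cancel] at this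
  exact this

variable (B) in
/-- The frame vectors. -/
def frameVecs (N : ℕ) (e f : ℕ → V) (w0 : V) : Set V := {x | ∃ i, i < N ∧ (x = e i ∨ x = f i)} ∪ {w0}

theorem frame_ext (h : HermSpace σ B) (hF : Frame B N e f w0) (hN : 1 ≤ N) {g g' : V ≃ₗ[F] V}
    (hg : ∀ x ∈ frameVecs N e f w0, g x = g' x) : g = g' := by
  refine LinearEquiv.ext fun x => ?_
  set r := x - B x (f 0) • e 0 - B x (e 0) • f 0 with hr
  have hre : B r (e 0) = 0 := by
    rw [hr, h.sub_left, h.sub_left, h.smul_left, h.smul_left, hF.ee, hF.fe 0 (by omega)]; ring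
  have hrf : B r (f 0) = 0 := by
    rw [hr, h.sub_left, h.sub_left, h.smul_left, h.smul_left, hF.ff, hF.ef 0 (by omega)]; ring
  have hrm : g r = g' r := by
    refine LinearMap.eqOn_span (f := g.toLinearMap) (g := g'.toLinearMap) ?_ (hF.span r hre hrf)
    rintro v (⟨i, -, hi, hv⟩ | hv)
    · exact hg v (Or.inl ⟨i, hi, hv⟩)
    · exact hg v (Or.inr hv)
  rw [show x = r + B x (f 0) • e 0 + B x (e 0) • f 0 by rw [hr]; abel]
  simp only [map_add, map_smul, hrm, hg _ (Or.inl ⟨0, by omega, Or.inl rfl⟩), hg _ (Or.inl ⟨0, by omega, Or.inr rfl⟩)]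

theorem commute_conj_cox (h : HermSpace σ B) (hF : Frame B N e f w0) (hN : 1 ≤ N) {d : F} (hd0 : d ≠ 0) (hd : d + σ d = 0)
    {hh : V ≃ₗ[F] V} (hdiag : ∀ x ∈ frameVecs N e f w0, ∃ a : F, hh x = a • x) :
    Commute hh (cox h N e f d * hh * (cox h N e f d)⁻¹) := by
  set s := cox h N e f d with hs
  obtain ⟨hel, hfl⟩ := cox_ev_last h hF hN hd0 hd
  have hpre : ∀ x ∈ frameVecs N e f w0, ∃ c : F, ∃ z ∈ frameVecs N e f w0, x = c • s z := by
    rintro x (⟨i, hi, hx⟩ | hx)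
    · rcases hx with rfl | rfl <;> rcases i with _ | i
      · exact ⟨d⁻¹, f (N - 1), Or.inl ⟨N - 1, by omega, Or.inr rfl⟩, by rw [hs, hfl, inv_smul_smul₀ hd0]⟩
      · exact ⟨-1, e i, Or.inl ⟨i, by omega, Or.inl rfl⟩, by rw [hs, (cox_ev h hF d hi).1]; simp⟩
      · exact ⟨-d, e (N - 1), Or.inl ⟨N - 1, by omega, Or.inl rfl⟩, by
          rw [hs, hel, smul_smul, neg_mul_neg, mul_inv_cancel₀ hd0, one_smul]⟩
      · exact ⟨-1, f i, Or.inl ⟨i, by omega, Or.inr rfl⟩, by rw [hs, (cox_ev h hF d hi).2]; simp⟩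
    · rw [Set.mem_singleton_iff] at hx
      subst hx
      exact ⟨1, x, Or.inr rfl, by rw [hs, cox_tail h hF, one_smul]⟩
  refine frame_ext h hF hN fun x hx => ?_
  obtain ⟨a, ha⟩ := hdiag x hx
  obtain ⟨c, z, hz, hxz⟩ := hpre x hx
  obtain ⟨a', ha'⟩ := hdiag z hz
  have hK : (s * hh * s⁻¹) x = a' • x := by
    rw [hxz]
    show s (hh (s.symm (c • s z))) = _
    rw [map_smul, LinearEquiv.symm_apply_apply, map_smul, ha', map_smul, map_smul]
    module
  show hh ((s * hh * s⁻¹) x) = (s * hh * s⁻¹) (hh x)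
  rw [hK, map_smul, ha, map_smul, hK]
  module

/-! ### The generators -/

/-- The flip of the first plane through a tail vector. -/
noncomputable def sflip (h : HermSpace σ B) (u v w : V) (c : F) : V ≃ₗ[F] V :=
  ue h u ((σ c / c) • w) c * ue h v ((-c⁻¹) • w) (σ c)⁻¹ * ue h u w c

theorem sflip_vals {u v w : V} {c : F} (hu : B u u = 0) (hv : B v v = 0) (huv : B u v = 1) (hvu : B v u = 1)
    (hwu : B w u = 0) (hwv : B w v = 0) (hc : c + σ c + B w w = 0) (hc0 : c ≠ 0) :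
    sflip h u v w c u = (σ c)⁻¹ • v ∧ sflip h u v w c v = c • u ∧ sflip h u v w c w = (-(σ c / c)) • w := by
  have huw : B u w = 0 := by rw [← h.symm, hwu, map_zero]
  have hvw : B v w = 0 := by rw [← h.symm, hwv, map_zero]
  have hσc : σ c ≠ 0 := (map_ne_zero σ).2 hc0
  have hww : B w w = -(c + σ c) := by linear_combination hc
  have h1 : B ((σ c / c) • w) u = 0 := by rw [h.smul_left, hwu, mul_zero]
  have f1 : c + σ c + B ((σ c / c) • w) ((σ c / c) • w) = 0 := by
    rw [h.smul_left, h.smul_right, hww, map_div₀, h.invol]; field_simp; ring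
  have h2 : B ((-c⁻¹) • w) v = 0 := by rw [h.smul_left, hwv, mul_zero]
  have f2 : (σ c)⁻¹ + σ (σ c)⁻¹ + B ((-c⁻¹) • w) ((-c⁻¹) • w) = 0 := by
    rw [h.smul_left, h.smul_right, hww, map_neg, map_inv₀, map_inv₀, h.invol]; field_simp; ring
  simp only [sflip, LinearEquiv.mul_apply, ue_apply hu hwu hc, ue_apply hu h1 f1, ue_apply hv h2 f2]
  refine ⟨?_, ?_, ?_⟩ <;>
    simp only [h.add_left, h.sub_left, h.smul_left, h.smul_right, hu, hv, huv, hvu, hwu, hwv, huw, hvw, hww, map_neg,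
      map_inv₀, map_div₀, h.invol] <;>
    match_scalars <;> field_simp <;> ring

theorem sflip_mem (u v w : V) (c : F) : sflip h u v w c ∈ uGroup h :=
  mul_mem (mul_mem (ue_mem_uGroup _ _ _) (ue_mem_uGroup _ _ _)) (ue_mem_uGroup _ _ _)

variable [Finite F] {q : ℕ}

theorem exists_generator (hcard : Nat.card F = q ^ 2) :
    ∃ μ : F, μ ≠ 0 ∧ ∀ j, 0 < j → j < q ^ 2 - 1 → μ ^ j ≠ 1 := by
  obtain ⟨c, hcgen⟩ := IsCyclic.exists_monoid_generator (α := Fˣ)
  refine ⟨(c : F), c.ne_zero, fun j hj hjq e => ?_⟩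
  have hord : orderOf c = q ^ 2 - 1 := by
    rw [orderOf_eq_card_of_forall_mem_powers hcgen, Nat.card_units, hcard]
  have := Nat.le_of_dvd hj (orderOf_dvd_of_pow_eq_one (n := j) (Units.ext (by push_cast; exact e) : c ^ j = 1))
  omega

theorem sq_bounds (hcard : Nat.card F = q ^ 2) : 2 ≤ q ∧ 2 * (q - 1) < q ^ 2 - 1 := by
  have h2 : 1 < Nat.card F := Finite.one_lt_card
  rw [hcard] at h2
  have hq : 2 ≤ q := by
    by_contra hq
    have h4 : q ^ 2 ≤ 1 := by
      calc q ^ 2 ≤ 1 ^ 2 := Nat.pow_le_pow_left (by omega) 2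
        _ = 1 := one_pow 2
    omega
  refine ⟨hq, ?_⟩
  have : 2 * q ≤ q ^ 2 := by rw [pow_two]; exact Nat.mul_le_mul_right q hq
  omega

/-- The torus of the first two planes. -/
noncomputable def tor (h : HermSpace σ B) (e f : ℕ → V) (μ : F) : V ≃ₗ[F] V :=
  pmove h e f 0 1 μ * pmove h e f 0 1 (-1)

theorem tor_vals (h : HermSpace σ B) (hF : Frame B N e f w0) (hN : 2 ≤ N) {μ : F} (hμ : μ ≠ 0) :
    tor h e f μ (e 0) = σ μ • e 0 ∧ tor h e f μ (e 1) = (σ μ)⁻¹ • e 1 ∧ tor h e f μ (f 0) = μ⁻¹ • f 0 ∧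
    tor h e f μ (f 1) = μ • f 1 ∧ (∀ i, 2 ≤ i → tor h e f μ (e i) = e i ∧ tor h e f μ (f i) = f i) ∧
    tor h e f μ w0 = w0 := by
  obtain ⟨m1, m2, m3, m4⟩ := pmove_vals h hF (show 0 < N by omega) (show 1 < N by omega) zero_ne_one hμ
  obtain ⟨n1, n2, n3, n4⟩ := pmove_vals h hF (show 0 < N by omega) (show 1 < N by omega) zero_ne_one
    (neg_ne_zero.2 (one_ne_zero (α := F)))
  rw [map_neg, map_one] at n1 n2
  simp only [inv_neg, inv_one, neg_neg, one_smul] at n1 n2 n3 n4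
  refine ⟨?_, ?_, ?_, ?_, fun i hi => ⟨?_, ?_⟩, ?_⟩ <;> simp only [tor, LinearEquiv.mul_apply]
  · rw [n1, map_smul, m2]; module
  · rw [n2, m1]
  · rw [n3, map_smul, m4]; module
  · rw [n4, m3]
  · rw [pmove_fix _ (hF.ee _ _) (hF.ef_ne _ _ (by omega)) (hF.ee _ _) (hF.ef_ne _ _ (by omega)),
      pmove_fix _ (hF.ee _ _) (hF.ef_ne _ _ (by omega)) (hF.ee _ _) (hF.ef_ne _ _ (by omega))]
  · rw [pmove_fix _ (hF.fe_ne _ _ (by omega)) (hF.ff _ _) (hF.fe_ne _ _ (by omega)) (hF.ff _ _),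
      pmove_fix _ (hF.fe_ne _ _ (by omega)) (hF.ff _ _) (hF.fe_ne _ _ (by omega)) (hF.ff _ _)]
  · rw [pmove_fix _ (hF.w0e _) (hF.w0f _) (hF.w0e _) (hF.w0f _),
      pmove_fix _ (hF.w0e _) (hF.w0f _) (hF.w0e _) (hF.w0f _)]

theorem exists_gen_planes (h : HermSpace σ B) (hcard : Nat.card F = q ^ 2) (hσq : ∀ x, σ x = x ^ q)
    (hF : Frame B N e f w0) (hN : 2 ≤ N) :
    ∃ a ∈ uGroup h, ∃ b ∈ uGroup h, ∀ x c, B x (e 0) = 0 → B x (f 0) = 0 → c + σ c + B x x = 0 →
      ue h (e 0) x c ∈ Subgroup.closure {a, b} ∧ ue h (f 0) x c ∈ Subgroup.closure {a, b} := by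
  obtain ⟨hq2, hq3⟩ := sq_bounds hcard
  obtain ⟨μ, hμ, hgen⟩ := exists_generator hcard
  obtain ⟨d, hd0, hd⟩ := h.exists_skew
  have hσμ : σ μ ≠ 0 := (map_ne_zero σ).2 hμ
  have hσinj : ∀ x, σ x = 1 → x = 1 := fun x hx => σ.injective (by rw [hx, map_one])
  obtain ⟨te0, te1, tf0, tf1, tfix, tw⟩ := tor_vals h hF hN hμ
  set hh := tor h e f μ with hhdef
  set s := cox h N e f d with hsdef
  have hhΓ : hh ∈ uGroup h := mul_mem (mul_mem (mul_mem (ue_mem_uGroup _ _ _) (ue_mem_uGroup _ _ _)) (ue_mem_uGroup _ _ _))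
    (mul_mem (mul_mem (ue_mem_uGroup _ _ _) (ue_mem_uGroup _ _ _)) (ue_mem_uGroup _ _ _))
  have hdiag : ∀ x ∈ frameVecs N e f w0, ∃ a : F, hh x = a • x := by
    rintro x (⟨i, -, rfl | rfl⟩ | rfl)
    · rcases i with _ | _ | i
      exacts [⟨_, te0⟩, ⟨_, te1⟩, ⟨1, by rw [(tfix _ (by omega)).1, one_smul]⟩]
    · rcases i with _ | _ | i
      exacts [⟨_, tf0⟩, ⟨_, tf1⟩, ⟨1, by rw [(tfix _ (by omega)).2, one_smul]⟩]
    · exact ⟨1, by rw [tw, one_smul]⟩
  have hcomm := commute_conj_cox h hF (by omega) hd0 hd hdiag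
  obtain ⟨hel, hfl⟩ := cox_ev_last h hF (show 1 ≤ N by omega) hd0 hd
  rw [← hsdef] at hel hfl hcomm
  have hse1 : s.symm (e 1) = -e 0 := s.symm_apply_eq.2 (by rw [map_neg, hsdef, (cox_ev h hF d hN).1, neg_neg])
  have hsf1 : s.symm (f 1) = -f 0 := s.symm_apply_eq.2 (by rw [map_neg, hsdef, (cox_ev h hF d hN).2, neg_neg])
  have hsw : s.symm w0 = w0 := s.symm_apply_eq.2 (cox_tail h hF d).symm
  have hpowne : ∀ j, 0 < j → j ≤ q - 1 → μ ^ j ≠ 1 ∧ μ ^ (2 * j) ≠ 1 := fun j hj hjq =>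
    ⟨hgen j hj (by omega), hgen (2 * j) (by omega) (by omega)⟩
  rcases hF.unit with hw0 | hw
  · -- even dimension
    refine ⟨hh, hhΓ, ue h (f 0) (e 1) 0 * s, mul_mem (ue_mem_uGroup _ _ _) (cox_mem d), ?_⟩
    set L := Subgroup.closure ({hh, ue h (f 0) (e 1) 0 * s} : Set (V ≃ₗ[F] V))
    have hL : L ≤ biIsoGroup B := (Subgroup.closure_le _).2 fun x hx => uGroup_le h (by
      rcases hx with rfl | rfl
      exacts [hhΓ, mul_mem (ue_mem_uGroup _ _ _) (cox_mem d)])
    have hhL : hh ∈ L := Subgroup.subset_closure (Or.inl rfl)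
    have hbL : ue h (f 0) (e 1) 0 * s ∈ L := Subgroup.subset_closure (Or.inr rfl)
    obtain ⟨a', ha', hsu, hne⟩ : ∃ a' : F, a' ≠ 0 ∧ s (hh (s.symm (f 0))) = a' • f 0 ∧ σ a' * σ μ ≠ 1 := by
      have hlast : s.symm (f 0) = (-d) • e (N - 1) := s.symm_apply_eq.2 (by
        rw [map_smul, hel, smul_smul, neg_mul_neg, mul_inv_cancel₀ hd0, one_smul])
      by_cases hN2 : N = 2
      · subst hN2
        refine ⟨(σ μ)⁻¹, inv_ne_zero hσμ, ?_, ?_⟩
        · rw [hlast, map_smul, te1, map_smul, map_smul, hel]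
          match_scalars; field_simp
        · rw [map_inv₀, h.invol, hσq]
          intro e'
          refine hgen (q - 1) (by omega) (by omega) ?_
          rw [← mul_right_inj' hμ, mul_one, ← pow_succ', show q - 1 + 1 = q by omega]
          field_simp at e'
          exact e'
      · refine ⟨1, one_ne_zero, ?_, ?_⟩
        · rw [hlast, map_smul, (tfix (N - 1) (by omega)).1, map_smul, hel]
          match_scalars; field_simp
        · rw [map_one, one_mul]
          exact fun e' => (hpowne 1 Nat.one_pos (by omega)).1 (by rw [pow_one]; exact hσinj _ e')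
    have hgood := engine (h := h) hcard hL hhL (uGroup_le h (cox_mem d)) (hF.ff 0 0) (hF.ef_ne _ _ one_ne_zero)
      (show (0 : F) + σ 0 + B (e 1) (e 1) = 0 by simp [hF.ee]) (fun _ => rfl) hbL (inv_ne_zero hμ) (inv_ne_zero hσμ) ha'
      hσμ tf0 te1 hsu (by
        show s (hh (s.symm (e 1))) = _
        rw [hse1, map_neg, te0, map_neg, map_smul, hsdef, (cox_ev h hF d hN).1]; module)
      hcomm hne (fun j hj hjq e' => by
        refine (hpowne j hj hjq).2 (hσinj _ ?_)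
        rw [map_inv₀, ← _root_.mul_inv_rev, ← pow_two, inv_pow, inv_eq_one, ← pow_mul] at e'
        rw [map_pow]; exact e')
    have hT : Root h L (f 0) (e 1) := fun t => by
      obtain ⟨c, -, hc0, hm⟩ := hgood t
      rwa [hc0 (hF.ee 1 1)] at hm
    have hsL : s ∈ L := by
      have h1 := hT 1
      rw [one_smul] at h1
      simpa using L.mul_mem (L.inv_mem h1) hbL
    have hR := fun i (hi0 : 0 < i) (hiN : i < N) =>
      planes_roots hF hL hN hd0 hd hsL hT (show 0 < N by omega) hiN (by omega)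
    have hzero : ∀ u, Short h L u w0 := fun u t => ⟨0, by simp [hw0, h.zero_left], by
      rw [hw0, smul_zero, ue_zero]; exact L.one_mem⟩
    intro x c hxe hxf hc
    obtain ⟨r1, r2, r3, r4⟩ := hR 1 Nat.one_pos (by omega)
    exact ⟨first_plane hF (hF.ee 0 0) (fun i h1 h2 => ⟨hF.ee _ _, hF.fe_ne _ _ (by omega), (hR i h1 h2).1, (hR i h1 h2).2.1⟩)
        (hF.w0e 0) (hzero _) (Long.of_pair r1 r2 (hF.ee _ _) (hF.ee _ _) (hF.ff _ _) (hF.ee _ _)
          (hF.fe_ne _ _ one_ne_zero) (hF.ef 1 (by omega))) hxe hxf hc,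
      first_plane hF (hF.ff 0 0) (fun i h1 h2 => ⟨hF.ef_ne _ _ (by omega), hF.ff _ _, (hR i h1 h2).2.2.1, (hR i h1 h2).2.2.2⟩)
        (hF.w0f 0) (hzero _) (Long.of_pair r3 r4 (hF.ff _ _) (hF.ee _ _) (hF.ff _ _) (hF.ef_ne _ _ one_ne_zero)
          (hF.ff _ _) (hF.ef 1 (by omega))) hxe hxf hc⟩
  · -- odd dimension
    obtain ⟨c0, hc0⟩ := h.exists_fill w0
    refine ⟨hh, hhΓ, ue h (f 1) w0 c0 * s, mul_mem (ue_mem_uGroup _ _ _) (cox_mem d), ?_⟩
    set L := Subgroup.closure ({hh, ue h (f 1) w0 c0 * s} : Set (V ≃ₗ[F] V))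
    have hL : L ≤ biIsoGroup B := (Subgroup.closure_le _).2 fun x hx => uGroup_le h (by
      rcases hx with rfl | rfl
      exacts [hhΓ, mul_mem (ue_mem_uGroup _ _ _) (cox_mem d)])
    have hhL : hh ∈ L := Subgroup.subset_closure (Or.inl rfl)
    have hbL : ue h (f 1) w0 c0 * s ∈ L := Subgroup.subset_closure (Or.inr rfl)
    have hgood := engine (h := h) hcard hL hhL (uGroup_le h (cox_mem d)) (hF.ff 1 1) (hF.w0f 1) hc0
      (fun e' => absurd (e'.symm.trans hw) zero_ne_one) hbL hμ (one_ne_zero (α := F)) (inv_ne_zero hμ)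
      (one_ne_zero (α := F)) tf1 (by rw [tw, one_smul]) (by
        show s (hh (s.symm (f 1))) = _
        rw [hsf1, map_neg, tf0, map_neg, map_smul, hsdef, (cox_ev h hF d hN).2]; module)
      (by show s (hh (s.symm w0)) = _; rw [hsw, tw, hsdef, cox_tail h hF, one_smul])
      hcomm (by rw [mul_one, map_inv₀, ne_eq, inv_eq_one]
                exact fun e' => (hpowne 1 Nat.one_pos (by omega)).1 (by rw [pow_one]; exact hσinj _ e'))
      (fun j hj hjq e' => (hpowne j hj hjq).1 (hσinj _ (by rw [mul_one] at e'; rw [map_pow]; exact e')))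
    have hS1 : Short h L (f 1) w0 := fun t => by
      obtain ⟨c, hc, -, hm⟩ := hgood t
      exact ⟨c, hc, hm⟩
    have hsL : s ∈ L := by
      obtain ⟨c, hc, hm⟩ := hS1 1
      rw [one_smul] at hc hm
      have hdd : (c0 - c) + σ (c0 - c) = 0 := by rw [map_sub]; linear_combination hc0 - hc
      have hm' := L.mul_mem hm (Long.of_short hS1 (hF.ff 1 1) (hF.w0f 1) hw _ hdd)
      rw [ue_mul (hF.ff 1 1) (hF.w0f 1) (h.zero_left _) hc (fill_zero hdd h), add_zero, h.zero_left, sub_zero,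
        add_sub_cancel] at hm'
      simpa using L.mul_mem (L.inv_mem hm') hbL
    have hstail : s w0 = w0 := cox_tail h hF d
    -- short root groups along the orbit
    have hshift : ∀ φ : ℕ → V, (∀ i, i + 1 < N → s (φ i) = -φ (i + 1)) → (∀ i, B (φ i) (φ i) = 0) →
        (∀ i, B w0 (φ i) = 0) → ∀ i, Short h L (φ i) w0 → ∀ k, i + k < N → Short h L (φ (i + k)) w0 := by
      intro φ hφ hQ ho i h0 k
      induction k with
      | zero => exact fun _ => h0
      | succ k ih =>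
        intro hk
        have := (ih (by omega)).conj hL hsL
        rw [hφ _ (by omega), hstail, ← neg_one_smul F (φ _), ← one_smul F w0] at this
        exact this.of_smul (by simp) one_ne_zero (hQ _) (ho _)
    have hfN : Short h L (f (N - 1)) w0 := by
      have := hshift f (fun i hi => (cox_ev h hF d hi).2) (fun i => hF.ff i i) hF.w0f 1 hS1 (N - 2) (by omega)
      rwa [show 1 + (N - 2) = N - 1 by omega] at this
    have he0 : Short h L (e 0) w0 := by
      have := hfN.conj hL hsL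
      rw [hfl, hstail, ← one_smul F w0] at this
      exact this.of_smul hd0 one_ne_zero (hF.ee _ _) (hF.w0e _)
    have he : ∀ k, k < N → Short h L (e k) w0 := fun k hk => by
      have := hshift e (fun i hi => (cox_ev h hF d hi).1) (fun i => hF.ee i i) hF.w0e 0 he0 k (by omega)
      rwa [zero_add] at this
    have hf0 : Short h L (f 0) w0 := by
      have := (he (N - 1) (by omega)).conj hL hsL
      rw [hel, hstail, ← one_smul F w0] at this
      exact this.of_smul (by simp [hd0]) one_ne_zero (hF.ff _ _) (hF.w0f _)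
    have hT : Root h L (f 0) (e 1) := root_of_short hF hL hN hw hf0 (he 1 hN)
    have hR := fun i (hi0 : 0 < i) (hiN : i < N) =>
      planes_roots hF hL hN hd0 hd hsL hT (show 0 < N by omega) hiN (by omega)
    intro x c hxe hxf hc
    exact ⟨first_plane hF (hF.ee 0 0) (fun i h1 h2 => ⟨hF.ee _ _, hF.fe_ne _ _ (by omega), (hR i h1 h2).1, (hR i h1 h2).2.1⟩)
        (hF.w0e 0) he0 (Long.of_short he0 (hF.ee _ _) (hF.w0e _) hw) hxe hxf hc,
      first_plane hF (hF.ff 0 0) (fun i h1 h2 => ⟨hF.ef_ne _ _ (by omega), hF.ff _ _, (hR i h1 h2).2.2.1, (hR i h1 h2).2.2.2⟩)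
        (hF.w0f 0) hf0 (Long.of_short hf0 (hF.ff _ _) (hF.w0f _) hw) hxe hxf hc⟩

theorem exists_gen_three (h : HermSpace σ B) (hcard : Nat.card F = q ^ 2) (hσq : ∀ x, σ x = x ^ q)
    (hnorm : ∀ a : F, σ a = a → ∃ x, x * σ x = a)
    (hF : Frame B 1 e f w0) (hw : B w0 w0 = 1) (hq : 3 ≤ q) :
    ∃ a ∈ uGroup h, ∃ b ∈ uGroup h, ∀ x c, B x (e 0) = 0 → B x (f 0) = 0 → c + σ c + B x x = 0 →
      ue h (e 0) x c ∈ Subgroup.closure {a, b} ∧ ue h (f 0) x c ∈ Subgroup.closure {a, b} := by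
  obtain ⟨hq2, hq3⟩ := sq_bounds hcard
  obtain ⟨μ, hμ, hgen⟩ := exists_generator hcard
  obtain ⟨d, hd0, hd⟩ := h.exists_skew
  have hσμ : σ μ ≠ 0 := (map_ne_zero σ).2 hμ
  obtain ⟨r, hr⟩ : ∃ a : F, a + σ a ≠ 0 := by
    obtain ⟨t, ht⟩ := h.exists_trace 1 (map_one σ)
    exact ⟨t, by rw [ht]; exact one_ne_zero⟩
  obtain ⟨t, ht, hμt⟩ : ∃ t, t + σ t ≠ 0 ∧ μ * t + σ (μ * t) ≠ 0 := by
    by_cases h1 : μ * r + σ (μ * r) ≠ 0
    · exact ⟨r, hr, h1⟩
    push Not at h1
    have h3 : μ * (r / μ) + σ (μ * (r / μ)) ≠ 0 := by rwa [mul_div_cancel₀ _ hμ]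
    by_cases h2 : r / μ + σ (r / μ) ≠ 0
    · exact ⟨r / μ, h2, h3⟩
    push Not at h2
    refine ⟨r + r / μ, fun e => hr ?_, fun e => h3 ?_⟩
    · rw [map_add] at e; linear_combination e - h2
    · rw [mul_add, map_add] at e; linear_combination e - h1
  have ht0 : t ≠ 0 := fun e => ht (by rw [e, map_zero, add_zero])
  have hσt : σ t ≠ 0 := (map_ne_zero σ).2 ht0
  set c2 := σ t with hc2
  set c1 := μ * t with hc1
  have hσt' : σ t ≠ 0 := hσt
  obtain ⟨a2, ha2⟩ := hnorm (-(c2 + σ c2)) (by rw [map_neg, map_add, h.invol]; ring)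
  obtain ⟨a1, ha1⟩ := hnorm (-(c1 + σ c1)) (by rw [map_neg, map_add, h.invol]; ring)
  have ha10 : a1 ≠ 0 := fun e => hμt (by rw [← neg_eq_zero, ← ha1, e, zero_mul])
  have ha20 : a2 ≠ 0 := fun e => ht (by rw [hc2, h.invol, e, zero_mul] at ha2; linear_combination ha2)
  have f1 : c1 + σ c1 + B (a1 • w0) (a1 • w0) = 0 := by
    rw [h.smul_left, h.smul_right, hw]; linear_combination ha1
  have f2 : c2 + σ c2 + B (a2 • w0) (a2 • w0) = 0 := by
    rw [h.smul_left, h.smul_right, hw]; linear_combination ha2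
  obtain ⟨p1, p2, p3⟩ := sflip_vals (h := h) (hF.ee 0 0) (hF.ff 0 0) (hF.ef 0 Nat.one_pos) (hF.fe 0 Nat.one_pos)
    (by rw [h.smul_left, hF.w0e, mul_zero]) (by rw [h.smul_left, hF.w0f, mul_zero]) f1 (mul_ne_zero hμ ht0)
  obtain ⟨r1, r2, r3⟩ := sflip_vals (h := h) (hF.ee 0 0) (hF.ff 0 0) (hF.ef 0 Nat.one_pos) (hF.fe 0 Nat.one_pos)
    (by rw [h.smul_left, hF.w0e, mul_zero]) (by rw [h.smul_left, hF.w0f, mul_zero]) f2 hσt
  set hh := sflip h (e 0) (f 0) (a1 • w0) c1 * sflip h (e 0) (f 0) (a2 • w0) c2 with hhdef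
  have te0 : hh (e 0) = μ • e 0 := by
    rw [hhdef, LinearEquiv.mul_apply, r1, map_smul, p2, hc1, hc2, h.invol, smul_smul,
      show t⁻¹ * (μ * t) = μ by field_simp]
  have tf0 : hh (f 0) = (σ μ)⁻¹ • f 0 := by
    rw [hhdef, LinearEquiv.mul_apply, r2, map_smul, p1, hc1, hc2, map_mul, smul_smul,
      show σ t * (σ μ * σ t)⁻¹ = (σ μ)⁻¹ by field_simp]
  have tw : hh w0 = (σ μ / μ) • w0 := by
    have hw2 : sflip h (e 0) (f 0) (a2 • w0) c2 w0 = (-(t / σ t)) • w0 := by
      have := r3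
      rw [map_smul, smul_comm, hc2, h.invol] at this
      exact smul_right_injective V ha20 this
    have hw1 : sflip h (e 0) (f 0) (a1 • w0) c1 w0 = (-(σ μ * σ t / (μ * t))) • w0 := by
      have := p3
      rw [map_smul, smul_comm, hc1, map_mul] at this
      exact smul_right_injective V ha10 this
    rw [hhdef, LinearEquiv.mul_apply, hw2, map_smul, hw1, smul_smul]
    congr 1
    field_simp
  set s := cox h 1 e f d with hsdef
  have hhΓ : hh ∈ uGroup h := mul_mem (sflip_mem _ _ _ _) (sflip_mem _ _ _ _)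
  have hdiag : ∀ x ∈ frameVecs 1 e f w0, ∃ a : F, hh x = a • x := by
    rintro x (⟨i, hi, rfl | rfl⟩ | rfl)
    · obtain rfl : i = 0 := by omega
      exact ⟨_, te0⟩
    · obtain rfl : i = 0 := by omega
      exact ⟨_, tf0⟩
    · exact ⟨_, tw⟩
  have hcomm := commute_conj_cox h hF le_rfl hd0 hd hdiag
  obtain ⟨hel, hfl⟩ := cox_ev_last h hF le_rfl hd0 hd
  rw [← hsdef] at hel hfl hcomm
  change s (e 0) = _ at hel
  change s (f 0) = _ at hfl
  have hsw : s w0 = w0 := cox_tail h hF d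
  obtain ⟨c0, hc0⟩ := h.exists_fill w0
  refine ⟨hh, hhΓ, ue h (f 0) w0 c0 * s, mul_mem (ue_mem_uGroup _ _ _) (cox_mem d), ?_⟩
  set L := Subgroup.closure ({hh, ue h (f 0) w0 c0 * s} : Set (V ≃ₗ[F] V))
  have hL : L ≤ biIsoGroup B := (Subgroup.closure_le _).2 fun x hx => uGroup_le h (by
    rcases hx with rfl | rfl
    exacts [hhΓ, mul_mem (ue_mem_uGroup _ _ _) (cox_mem d)])
  have hhL : hh ∈ L := Subgroup.subset_closure (Or.inl rfl)
  have hbL : ue h (f 0) w0 c0 * s ∈ L := Subgroup.subset_closure (Or.inr rfl)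
  have hqq : q * q = q ^ 2 := (pow_two q).symm
  have hq3q : 3 * q ≤ q * q := Nat.mul_le_mul_right q hq
  have hgood := engine (h := h) hcard hL hhL (uGroup_le h (cox_mem d)) (hF.ff 0 0) (hF.w0f 0) hc0
    (fun e' => absurd (e'.symm.trans hw) zero_ne_one) hbL (inv_ne_zero hσμ) (div_ne_zero hσμ hμ) hμ (div_ne_zero hσμ hμ)
    tf0 tw (by
      rw [show s.symm (f 0) = (-d) • e 0 from s.symm_apply_eq.2 (by
        rw [map_smul, hel, smul_smul, neg_mul_neg, mul_inv_cancel₀ hd0, one_smul]), map_smul, te0, map_smul, map_smul,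
        hel]
      match_scalars; field_simp)
    (by rw [show s.symm w0 = w0 from s.symm_apply_eq.2 hsw.symm, tw, map_smul, hsw])
    hcomm (fun e' => by
      rw [hσq] at e'
      refine hgen (2 * q - 1) (by omega) (by omega) ?_
      rw [← mul_right_inj' hμ, mul_one, ← pow_succ', show 2 * q - 1 + 1 = q + q by omega, pow_add]
      field_simp at e'
      linear_combination e')
    (fun j hj hjq e' => by
      rw [map_inv₀, h.invol, hσq, show μ⁻¹ * (μ ^ q / μ) = μ ^ (q - 2) by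
        rw [show μ ^ q = μ ^ (q - 2) * μ ^ 2 by rw [← pow_add, show q - 2 + 2 = q by omega]]
        field_simp, ← pow_mul] at e'
      refine hgen ((q - 2) * j) (Nat.mul_pos (by omega) hj) ?_ e'
      calc (q - 2) * j ≤ q * (q - 1) := Nat.mul_le_mul (by omega) hjq
        _ = q * q - q := Nat.mul_sub_one q q
        _ < q ^ 2 - 1 := by omega)
  have hS : Short h L (f 0) w0 := fun t => by
    obtain ⟨c, hc, -, hm⟩ := hgood t
    exact ⟨c, hc, hm⟩
  have hsL : s ∈ L := by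
    obtain ⟨c, hc, hm⟩ := hS 1
    rw [one_smul] at hc hm
    have hdd : (c0 - c) + σ (c0 - c) = 0 := by rw [map_sub]; linear_combination hc0 - hc
    have hm' := L.mul_mem hm (Long.of_short hS (hF.ff 0 0) (hF.w0f 0) hw _ hdd)
    rw [ue_mul (hF.ff 0 0) (hF.w0f 0) (h.zero_left _) hc (fill_zero hdd h), add_zero, h.zero_left, sub_zero,
      add_sub_cancel] at hm'
    simpa using L.mul_mem (L.inv_mem hm') hbL
  have he0 : Short h L (e 0) w0 := by
    have := hS.conj hL hsL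
    rw [hfl, hsw, ← one_smul F w0] at this
    exact this.of_smul hd0 one_ne_zero (hF.ee _ _) (hF.w0e _)
  intro x c hxe hxf hc
  exact ⟨first_plane hF (hF.ee 0 0) (fun i h1 h2 => absurd h2 (by omega)) (hF.w0e 0) he0
      (Long.of_short he0 (hF.ee _ _) (hF.w0e _) hw) hxe hxf hc,
    first_plane hF (hF.ff 0 0) (fun i h1 h2 => absurd h2 (by omega)) (hF.w0f 0) hS
      (Long.of_short hS (hF.ff _ _) (hF.w0f _) hw) hxe hxf hc⟩

end Cfsg.Agent.Lib.UnitGen
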